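import Cfsg.Agent.Lib.AltClasses.FlipTransv
import Cfsg.Agent.Lib.SylClasses.Matching

/-!
Conjugation maps of a parametrised standard subgroup, and the transvections among them fixing `t`.
-/

set_option autoImplicit false
set_option linter.unusedSectionVars false
set_option linter.style.haveILetI false

namespace Cfsg.Agent.AltClasses

open SylClasses

local notation "F" => ZMod 2

section autGrp

variable {G : Type*} [Group G] {V : Type*} [AddCommGroup V] [Module F V]

/-- The maps induced by conjugation. -/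
def autGrp (E : V → G) : Subgroup (V ≃ₗ[F] V) where
  carrier := {φ | ∃ g : G, ∀ v, g * E v * g⁻¹ = E (φ v)}
  one_mem' := ⟨1, fun v => by simp⟩
  mul_mem' := by
    rintro φ ψ ⟨g, hg⟩ ⟨h, hh⟩
    refine ⟨g * h, fun v => ?_⟩
    rw [show g * h * E v * (g * h)⁻¹ = g * (h * E v * h⁻¹) * g⁻¹ by group, hh, hg]
    rfl
  inv_mem' := by
    rintro φ ⟨g, hg⟩
    refine ⟨g⁻¹, fun v => ?_⟩
    have h := hg (φ.symm v)
    rw [LinearEquiv.apply_symm_apply] at h
    rw [← h, inv_inv]
    show _ = E (φ.symm v)
    group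

theorem mem_autGrp {E : V → G} {φ : V ≃ₗ[F] V} :
    φ ∈ autGrp E ↔ ∃ g : G, ∀ v, g * E v * g⁻¹ = E (φ v) := Iff.rfl

theorem autGrp_conj {E E' : V → G} {g : G} (h : ∀ v, E' v = g * E v * g⁻¹) : autGrp E' = autGrp E := by
  ext φ
  constructor
  · rintro ⟨k, hk⟩
    refine ⟨g⁻¹ * k * g, fun v => ?_⟩
    have h1 := hk v
    rw [h, h] at h1
    calc g⁻¹ * k * g * E v * (g⁻¹ * k * g)⁻¹ = g⁻¹ * (k * (g * E v * g⁻¹) * k⁻¹) * g := by group
      _ = E (φ v) := by rw [h1]; group
  · rintro ⟨k, hk⟩
    refine ⟨g * k * g⁻¹, fun v => ?_⟩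
    rw [h, h, ← hk]
    group

/-- Two functionals with the same zeros agree. -/
theorem lin_eq_of_zero_iff {f g : V →ₗ[F] F} (h : ∀ v, f v = 0 ↔ g v = 0) : f = g :=
  LinearMap.ext fun v => by
    rcases F_cases (f v) with e | e
    · rw [e, (h v).1 e]
    · rw [e, (F_cases (g v)).resolve_left fun e' => one_ne_zero (e ▸ (h v).2 e')]

/-- A transvection from a conjugation. -/
theorem isTv_of_conj {E : V → G} (g : G) (c : V) (f : V →ₗ[F] F) (hc : c ≠ 0) (hf : f ≠ 0) (hfc : f c = 0)
    (h : ∀ v, g * E v * g⁻¹ = E (v + f v • c)) : IsTv (autGrp E) c f := by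
  have hinv : ∀ v, v + f v • c + f (v + f v • c) • c = v := fun v => by
    rw [map_add, map_smul, hfc, smul_zero, add_zero, add_assoc, vec_add_self, add_zero]
  let φ : V ≃ₗ[F] V := LinearEquiv.ofLinear (LinearMap.id + f.smulRight c) (LinearMap.id + f.smulRight c)
    (LinearMap.ext hinv) (LinearMap.ext hinv)
  exact ⟨hc, hf, hfc, φ, ⟨g, h⟩, fun v => rfl⟩

end autGrp

variable {ι : Type*} [Fintype ι] [DecidableEq ι]

/-- A parametrisation of a standard subgroup. -/
structure Par {V : Type*} [AddCommGroup V] (μ : ι → ι) (hμ : Function.Involutive μ) (L : V → W ι) : Prop where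
  add : ∀ v w, L (v + w) = L v * L w
  inj : Function.Injective L
  range : ∀ a, a ∈ W.std μ hμ ↔ ∃ v, L v = a

theorem parD : Par (ι := ι) id (fun _ => rfl) (fun v : ι → F => W.fl v) where
  add := W.fl_add
  inj _ _ h := W.fl_inj.1 h
  range a := by
    refine ⟨fun h => ⟨a.v, ?_⟩, fun ⟨v, e⟩ => e ▸ W.fl_mem_std.2 fun _ => rfl⟩
    ext1
    · rfl
    · exact Equiv.ext fun i => ((h.2 i).elim id id).symm

/-- The transvection centre attached to two points. -/
def PairRel (μ : ι → ι) (a b : ι) : Prop := a ≠ b ∧ (μ a = b ∨ μ a = a ∧ μ b = b)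

theorem conj_v (w b : W ι) (i : ι) :
    (w * b * w⁻¹).v i = w.v i + b.v (w.p.symm i) + w.v (w.p (b.p.symm (w.p.symm i))) := by
  simp [Equiv.Perm.mul_def, add_assoc]

namespace Par

variable {V : Type*} [AddCommGroup V] [Module F V] {μ : ι → ι} {hμ : Function.Involutive μ} {L : V → W ι}
  (P : Par μ hμ L)
include P

theorem mem (v : V) : L v ∈ W.std μ hμ := (P.range _).2 ⟨v, rfl⟩

theorem zero : L 0 = 1 := by
  have h := P.add 0 0
  rw [add_zero] at h
  exact left_eq_mul.1 h

theorem exists_t : ∃ v, L v = W.zz := (P.range _).1 (W.fl_mem_std.2 fun _ => rfl)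

theorem p_fix {a : ι} (ha : μ a = a) (v : V) : (L v).p a = a := ((P.mem v).2 a).elim id (fun e => e.trans ha)

theorem p_symm (v : V) (i : ι) : (L v).p.symm i = (L v).p i := by
  have h := congrArg W.p (W.std_sq (P.mem v))
  rw [Equiv.symm_apply_eq]
  exact (congrArg (fun p : Equiv.Perm ι => p i) h).symm

theorem v_perm (u v : V) (i : ι) : (L v).v ((L u).p i) = (L v).v i := by
  rcases (P.mem u).2 i with h | h <;> rw [h]
  exact (P.mem v).1 i

theorem v_add (u v : V) : (L (u + v)).v = (L u).v + (L v).v := by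
  funext i
  rw [P.add, W.mul_v, Pi.add_apply, Pi.add_apply, Function.comp_apply, P.p_symm, P.v_perm]

/-- The coordinate of the swap at a point. -/
theorem exists_sp (a : ι) : ∃ f : V →ₗ[F] F, ∀ v, f v = 0 ↔ (L v).p a = a := by
  let φ : V → F := fun v => if (L v).p a = a then 0 else 1
  have hadd : ∀ u v, φ (u + v) = φ u + φ v := by
    intro u v
    have hu := (P.mem u).2 a
    have hu' := (P.mem u).2 (μ a)
    rw [hμ a] at hu'
    simp only [φ, P.add, W.mul_p, Equiv.Perm.mul_apply]
    rcases eq_or_ne (μ a) a with hm | hm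
    · simp [P.p_fix hm]
    rcases (P.mem v).2 a with hv | hv
    · simp [hv]
    · rcases hu with hu | hu
      · have : (L u).p (μ a) = μ a := hu'.resolve_right fun e => hm ((L u).p.injective (e.trans hu.symm))
        simp [hv, hu, hm, this]
      · have : (L u).p (μ a) = a := hu'.resolve_left fun e => hm ((L u).p.injective (e.trans hu.symm))
        simp [hv, hu, hm, this]
        rfl
  refine ⟨AddMonoidHom.toZModLinearMap 2 (AddMonoidHom.mk' φ hadd), fun v => ?_⟩
  show φ v = 0 ↔ _
  simp only [φ]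
  split_ifs with h <;> simp [h]

/-- The linear map of the flip coordinates. -/
theorem exists_fv : ∃ f : V →ₗ[F] (ι → F), ∀ v, f v = (L v).v :=
  ⟨AddMonoidHom.toZModLinearMap 2 (AddMonoidHom.mk' (fun v => (L v).v) P.v_add), fun _ => rfl⟩

variable {G : Type*} [Group G] (s : Setup ι G)

theorem isTv_of_flip (w : W ι) (c : V) (f : V →ₗ[F] F) {x : ι → F} (hx : x ≠ 0) (hc : L c = W.fl x)
    (hf : f ≠ 0) (hfc : f c = 0) (h : ∀ v, w * L v * w⁻¹ = W.fl (f v • x) * L v) :
    IsTv (autGrp fun v => s.emb (L v)) c f := by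
  refine isTv_of_conj (s.emb w) c f (fun e => hx ?_) hf hfc fun v => ?_
  · rw [e, P.zero] at hc
    exact (congrArg W.v hc).symm
  · rw [← map_inv, ← map_mul, ← map_mul, h, add_comm, P.add]
    congr 2
    rcases F_cases (f v) with e | e <;> rw [e]
    · rw [zero_smul, zero_smul, P.zero, W.fl_zero]
    · rw [one_smul, one_smul, hc]

theorem tv_pair {a : ι} (ha : μ a ≠ a) : ∃ c f, IsTv (autGrp fun v => s.emb (L v)) c f ∧
    L c = W.fl (fc a (μ a)) ∧ ∀ v, f v = 0 ↔ (L v).p a = a := by
  have hinv : W.InvVec μ (fc a (μ a)) := fun i => by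
    simp only [fc, Pi.add_apply, Pi.single_apply, hμ.injective.eq_iff,
      show μ i = a ↔ i = μ a from ⟨fun e => by rw [← e, hμ], fun e => by rw [e, hμ]⟩]
    exact add_comm _ _
  obtain ⟨c, hc⟩ := (P.range _).1 (W.fl_mem_std (hμ := hμ) |>.2 hinv)
  obtain ⟨f, hf⟩ := P.exists_sp a
  obtain ⟨v₀, hv₀⟩ := (P.range (W.pm (Equiv.swap a (μ a)))).1 ⟨fun _ => rfl, fun i => by
    rw [W.pm_p]
    rcases eq_or_ne i a with rfl | h1
    · exact Or.inr (Equiv.swap_apply_left _ _)
    rcases eq_or_ne i (μ a) with rfl | h2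
    · rw [hμ]; exact Or.inr (Equiv.swap_apply_right _ _)
    exact Or.inl (Equiv.swap_apply_of_ne_of_ne h1 h2)⟩
  refine ⟨c, f, P.isTv_of_flip s (W.fl (Pi.single a 1)) c f (fun e => ?_) hc (fun e => ?_) ?_ (fun v => ?_),
    hc, hf⟩
  · simpa [fc_left (Ne.symm ha)] using congrFun e a
  · have := (hf v₀).1 (by rw [e]; rfl)
    rw [hv₀, W.pm_p, Equiv.swap_apply_left] at this
    exact ha this
  · exact (hf c).2 (by rw [hc]; rfl)
  · ext1
    · funext i
      rw [conj_v, W.mul_v, Pi.add_apply]
      simp only [W.fl_v, W.fl_p, Equiv.Perm.one_symm, Equiv.Perm.one_apply, Function.comp_apply,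
        Pi.smul_apply, P.p_symm]
      have hsp : f v • fc a (μ a) i = (Pi.single a 1 : ι → F) i + (Pi.single a 1 : ι → F) ((L v).p i) := by
        rcases eq_or_ne ((L v).p a) a with h | h
        · rw [(hf v).2 h, zero_smul]
          rcases eq_or_ne i a with rfl | hi
          · rw [h, vec_add_self]
          · rw [Pi.single_eq_of_ne hi, Pi.single_eq_of_ne fun e => hi ((L v).p.injective (e.trans h.symm)),
              add_zero]
        · rw [(F_cases _).resolve_left fun e => h ((hf v).1 e), one_smul]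
          have h' := ((P.mem v).2 a).resolve_left h
          rcases eq_or_ne i a with rfl | hi
          · rw [fc_left (Ne.symm ha), h', Pi.single_eq_of_ne ha, Pi.single_eq_same, add_zero]
          rcases eq_or_ne i (μ a) with rfl | hi'
          · have : (L v).p (μ a) = a := by
              conv_lhs => rw [← h', ← P.p_symm v ((L v).p a), Equiv.symm_apply_apply]
            rw [fc_right (Ne.symm ha), this, Pi.single_eq_of_ne hi, Pi.single_eq_same, zero_add]
          · rw [fc_other hi hi', Pi.single_eq_of_ne hi, Pi.single_eq_of_ne fun e => ?_, add_zero]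
            refine hi' ?_
            rw [← h', ← e, ← P.p_symm v ((L v).p i), Equiv.symm_apply_apply] at *
      rw [hsp]
      abel
    · simp

theorem tv_single {a b : ι} (hab : a ≠ b) (ha : μ a = a) (hb : μ b = b) :
    ∃ c f, IsTv (autGrp fun v => s.emb (L v)) c f ∧ L c = W.fl (fc a b) ∧
      ∀ v, f v = 0 ↔ (L v).v a = (L v).v b := by
  have hinv : W.InvVec μ (fc a b) := fun i => by
    rcases eq_or_ne i a with rfl | h1
    · rw [ha]
    rcases eq_or_ne i b with rfl | h2
    · rw [hb]
    rw [fc_other h1 h2, fc_other (fun e => h1 ?_) (fun e => h2 ?_)]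
    · exact hμ.injective (e.trans ha.symm)
    · exact hμ.injective (e.trans hb.symm)
  obtain ⟨c, hc⟩ := (P.range _).1 (W.fl_mem_std (hμ := hμ) |>.2 hinv)
  obtain ⟨fv, hfv⟩ := P.exists_fv
  set f : V →ₗ[F] F := (ff a b).comp fv with hf
  have hf' : ∀ v, f v = (L v).v a + (L v).v b := fun v => by rw [hf, LinearMap.comp_apply, hfv, ff_apply]
  obtain ⟨v₀, hv₀⟩ := (P.range (W.fl (Pi.single a 1))).1 (W.fl_mem_std.2 fun i => by
    rcases eq_or_ne i a with rfl | h1
    · rw [ha]
    rw [Pi.single_eq_of_ne h1, Pi.single_eq_of_ne fun e => h1 (hμ.injective (e.trans ha.symm))])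
  refine ⟨c, f, P.isTv_of_flip s (W.pm (Equiv.swap a b)) c f (fun e => ?_) hc (fun e => ?_) ?_ (fun v => ?_),
    hc, fun v => by rw [hf']; exact CharTwo.add_eq_zero⟩
  · simpa [fc_left hab] using congrFun e a
  · have := hf' v₀
    rw [e, hv₀, W.fl_v, Pi.single_eq_same, Pi.single_eq_of_ne hab.symm] at this
    simp at this
  · rw [hf', hc, W.fl_v, fc_left hab, fc_right hab, vec_add_self]
  · have hcomm : Equiv.swap a b * (L v).p * (Equiv.swap a b)⁻¹ = (L v).p := by
      rw [mul_inv_eq_iff_eq_mul, Equiv.mul_swap_eq_swap_mul, P.p_fix ha, P.p_fix hb]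
    ext1
    · funext i
      rw [conj_v, W.mul_v, Pi.add_apply]
      simp only [W.pm_v, W.pm_p, W.fl_v, W.fl_p, Pi.zero_apply, zero_add, add_zero, Equiv.symm_swap,
        Equiv.Perm.one_symm, Equiv.Perm.one_apply, Function.comp_apply, Pi.smul_apply, hf', smul_eq_mul]
      rcases eq_or_ne i a with rfl | h1
      · rw [Equiv.swap_apply_left, fc_left hab, mul_one, add_right_comm, vec_add_self, zero_add]
      rcases eq_or_ne i b with rfl | h2
      · rw [Equiv.swap_apply_right, fc_right hab, mul_one, add_assoc, vec_add_self, add_zero]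
      rw [Equiv.swap_apply_of_ne_of_ne h1 h2, fc_other h1 h2, mul_zero, zero_add]
    · simp only [W.mul_p, W.inv_p, W.pm_p, W.fl_p, one_mul]
      exact hcomm

/-- Every transvection fixing `t` is one of those. -/
theorem tv_cases {c : V} {f : V →ₗ[F] F} (h : IsTv (autGrp fun v => s.emb (L v)) c f) {vt : V}
    (hvt : L vt = W.zz) (hf : f vt = 0) :
    (∃ a, μ a ≠ a ∧ L c = W.fl (fc a (μ a)) ∧ ∀ v, f v = 0 ↔ (L v).p a = a) ∨
      ∃ a b, a ≠ b ∧ μ a = a ∧ μ b = b ∧ L c = W.fl (fc a b) ∧ ∀ v, f v = 0 ↔ (L v).v a = (L v).v b := by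
  obtain ⟨hc, hf0, -, φ, ⟨g, hg⟩, hφ⟩ := h
  have hgt : g ∈ Subgroup.centralizer ({s.t} : Set G) := by
    rw [Subgroup.mem_centralizer_singleton_iff]
    have := hg vt
    simp only [hφ, hf, zero_smul, add_zero, hvt] at this
    exact mul_inv_eq_iff_eq_mul.1 this
  set w := s.proj ⟨g, hgt⟩
  have key : ∀ v, w * L v * w⁻¹ = L v * L (f v • c) := fun v => by
    have e : (⟨g, hgt⟩ : ↥(Subgroup.centralizer ({s.t} : Set G))) * ⟨s.emb (L v), s.emb_mem _⟩ * (⟨g, hgt⟩)⁻¹ =
        ⟨s.emb (L (φ v)), s.emb_mem _⟩ := Subtype.ext (hg v)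
    have := congrArg s.proj e
    rwa [map_mul, map_mul, map_inv, s.proj_emb, s.proj_emb, hφ, P.add] at this
  have hC1 : L c ≠ 1 := fun e => hc (P.inj (e.trans P.zero.symm))
  have hw : ∀ b ∈ W.std μ hμ, w * b * w⁻¹ = b ∨ w * b * w⁻¹ = b * L c := fun b hb => by
    obtain ⟨v, rfl⟩ := (P.range b).1 hb
    rcases F_cases (f v) with e | e <;> have := key v <;> rw [e] at this
    · rw [zero_smul, P.zero, mul_one] at this; exact Or.inl this
    · rw [one_smul] at this; exact Or.inr this
  have flips : ∀ x, W.InvVec μ x → (∀ i, x (w.p.symm i) = x i) ∨ L c = W.fl (x + x ∘ w.p.symm) := by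
    intro x hx
    rcases hw _ (W.fl_mem_std.2 hx) with e | e <;> rw [W.conj_fl] at e
    · exact Or.inl fun i => congrFun (W.fl_inj.1 e) i
    · refine Or.inr ?_
      rw [W.fl_add, e, ← mul_assoc, W.fl_sq, one_mul]
  -- the pairs stay
  have hpair : ∀ a, μ a ≠ a → w.p a = a ∨ w.p a = μ a := by
    intro a ha
    by_contra hne
    rw [not_or] at hne
    have hinv : W.InvVec μ (fc a (μ a)) := fun i => by
      simp only [fc, Pi.add_apply, Pi.single_apply, hμ.injective.eq_iff,
        show μ i = a ↔ i = μ a from ⟨fun e => by rw [← e, hμ], fun e => by rw [e, hμ]⟩]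
      exact add_comm _ _
    have hp1 : (L c).p = 1 := by
      rcases flips _ hinv with e | e
      · have := e (w.p a)
        rw [Equiv.symm_apply_apply, fc_left (Ne.symm ha), fc_other hne.1 hne.2] at this
        exact absurd this one_ne_zero
      · rw [e]; rfl
    have hs : W.pm (Equiv.swap a (μ a)) ∈ W.std μ hμ := ⟨fun _ => rfl, fun i => by
      rw [W.pm_p]
      rcases eq_or_ne i a with rfl | h1
      · exact Or.inr (Equiv.swap_apply_left _ _)
      rcases eq_or_ne i (μ a) with rfl | h2
      · rw [hμ]; exact Or.inr (Equiv.swap_apply_right _ _)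
      exact Or.inl (Equiv.swap_apply_of_ne_of_ne h1 h2)⟩
    have hp : w.p * Equiv.swap a (μ a) * w.p⁻¹ = Equiv.swap a (μ a) := by
      rcases hw _ hs with e | e <;> simpa [hp1] using congrArg W.p e
    rw [mul_inv_eq_iff_eq_mul] at hp
    have h2 := congrArg (fun p : Equiv.Perm ι => p a) hp
    simp only [Equiv.Perm.mul_apply, Equiv.swap_apply_left, Equiv.swap_apply_of_ne_of_ne hne.1 hne.2] at h2
    exact ha (w.p.injective h2)
  by_cases hS : ∃ a, μ a = a ∧ w.p a ≠ a
  · obtain ⟨a, ha, hne⟩ := hS
    have hb : μ (w.p a) = w.p a := by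
      by_contra hb
      rcases hpair _ hb with e | e
      · exact hne (w.p.injective e)
      · rcases hpair (μ (w.p a)) (fun e' => hb (hμ.injective e')) with e' | e'
        · exact hb (w.p.injective (e'.trans e.symm))
        · rw [hμ] at e'
          have h1 : μ (w.p a) = a := w.p.injective e'
          have h2 := congrArg μ h1
          rw [hμ, ha] at h2
          exact hne h2
    have hx : W.InvVec μ (Pi.single a 1) := fun i => by
      rcases eq_or_ne i a with rfl | h1
      · rw [ha]
      rw [Pi.single_eq_of_ne h1, Pi.single_eq_of_ne fun e => h1 (hμ.injective (e.trans ha.symm))]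
    rcases flips _ hx with e | e
    · have := e (w.p a)
      rw [Equiv.symm_apply_apply, Pi.single_eq_same, Pi.single_eq_of_ne hne] at this
      exact absurd this one_ne_zero
    · have hcv : L c = W.fl (fc a (w.p a)) := by
        rw [e]
        congr 1
        funext i
        simp [fc, Pi.single_apply, Equiv.symm_apply_eq]
      refine Or.inr ⟨a, w.p a, hne.symm, ha, hb, hcv, fun v => ?_⟩
      have hv : (w * L v * w⁻¹).v (w.p a) = (L v).v a := by
        rw [conj_v, Equiv.symm_apply_apply, P.p_symm, P.p_fix ha, add_right_comm, vec_add_self, zero_add]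
      rw [key v, W.mul_v, Pi.add_apply, Function.comp_apply, P.p_symm, P.p_fix hb] at hv
      rcases F_cases (f v) with ef | ef <;> rw [ef] at hv ⊢
      · rw [zero_smul, P.zero] at hv
        simpa using hv.symm
      · rw [one_smul, hcv, W.fl_v, fc_right hne.symm] at hv
        simp only [one_ne_zero, false_iff]
        intro e'
        rw [← e', add_eq_left] at hv
        exact one_ne_zero hv
  · push Not at hS
    have hdiff : ∀ b ∈ W.std μ hμ, w * b * w⁻¹ = W.fl (w.v + w.v ∘ b.p) * b := by
      intro b hb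
      have hsymm : ∀ i, b.p.symm i = b.p i := fun i =>
        (Equiv.symm_apply_eq _).2 (congrArg (fun q : W ι => q.p i) (W.std_sq hb)).symm
      have hcomm : ∀ i, w.p (b.p i) = b.p (w.p i) := by
        intro i
        by_cases hi : μ i = i
        · have : b.p i = i := (hb.2 i).elim id (fun e => e.trans hi)
          rw [this, hS i hi, this]
        · have hi' : μ (μ i) ≠ μ i := fun e => hi (hμ.injective e)
          have pw : ∀ j, μ j ≠ j → w.p j = j → w.p (μ j) = μ j := fun j hj e =>
            (hpair _ (fun e' => hj (hμ.injective e'))).resolve_right fun e' => by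
              rw [hμ] at e'
              exact hj (w.p.injective (e'.trans e.symm))
          have pb : ∀ j, μ j ≠ j → b.p j = j → b.p (μ j) = μ j := fun j hj e =>
            (hb.2 _).resolve_right fun e' => by
              rw [hμ] at e'
              exact hj (b.p.injective (e'.trans e.symm))
          rcases hb.2 i with h | h <;> rcases hpair i hi with h' | h'
          · rw [h, h', h]
          · rw [h, h', pb i hi h]
          · rw [h, h', h, pw i hi h']
          · rw [h, h']
            rcases hpair (μ i) hi' with a | a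
            · exact absurd (w.p.injective (a.trans h'.symm)) hi
            · rcases hb.2 (μ i) with a' | a'
              · exact absurd (b.p.injective (a'.trans h.symm)) hi
              · rw [a, a']
      have hfix : ∀ i, b.v (w.p.symm i) = b.v i := fun i => by
        obtain ⟨j, rfl⟩ := w.p.surjective i
        rw [Equiv.symm_apply_apply]
        by_cases hj : μ j = j
        · rw [hS j hj]
        · rcases hpair j hj with e | e <;> rw [e]
          exact (hb.1 j).symm
      ext1
      · funext i
        rw [conj_v, hfix, hsymm, hcomm, Equiv.apply_symm_apply]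
        simp only [W.mul_v, W.fl_v, W.fl_p, Pi.add_apply, Equiv.Perm.one_symm, Function.comp_apply,
          Equiv.Perm.one_apply]
        abel
      · refine Equiv.ext fun i => ?_
        simp only [W.mul_p, W.inv_p, W.fl_p, one_mul, Equiv.Perm.mul_apply, hcomm,
          Equiv.Perm.inv_def, Equiv.apply_symm_apply]
    have hLc : ∀ v, f v = 1 → L c = W.fl (w.v + w.v ∘ (L v).p) := fun v e => by
      have h1 := key v
      rw [e, one_smul, hdiff _ (P.mem v)] at h1
      rw [W.std_comm (P.mem v) (P.mem c)] at h1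
      exact (mul_right_cancel h1).symm
    obtain ⟨v₀, hv₀⟩ : ∃ v, f v = 1 := by
      by_contra hn
      push Not at hn
      exact hf0 (LinearMap.ext fun v => (F_cases _).resolve_right (hn v))
    obtain ⟨a, ha⟩ : ∃ a, w.v a + w.v ((L v₀).p a) ≠ 0 := by
      by_contra hn
      push Not at hn
      exact hC1 (by rw [hLc v₀ hv₀, show w.v + w.v ∘ (L v₀).p = 0 from funext hn, W.fl_zero])
    have hva : (L v₀).p a = μ a := ((P.mem v₀).2 a).resolve_left fun e => ha (by rw [e]; exact vec_add_self _)
    rw [hva] at ha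
    have hma : μ a ≠ a := fun e => ha (by rw [e]; exact vec_add_self _)
    obtain ⟨v₁, hv₁⟩ := (P.range (W.pm (Equiv.swap a (μ a)))).1 ⟨fun _ => rfl, fun i => by
      rw [W.pm_p]
      rcases eq_or_ne i a with rfl | h1
      · exact Or.inr (Equiv.swap_apply_left _ _)
      rcases eq_or_ne i (μ a) with rfl | h2
      · rw [hμ]; exact Or.inr (Equiv.swap_apply_right _ _)
      exact Or.inl (Equiv.swap_apply_of_ne_of_ne h1 h2)⟩
    have hf1 : f v₁ = 1 := (F_cases _).resolve_left fun e => ha (by
      have h1 := key v₁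
      rw [e, zero_smul, P.zero, mul_one, hdiff _ (P.mem v₁), mul_eq_right, ← W.fl_zero] at h1
      have := congrFun (W.fl_inj.1 h1) a
      rwa [hv₁, Pi.add_apply, Function.comp_apply, W.pm_p, Equiv.swap_apply_left] at this)
    have ha1 : w.v a + w.v (μ a) = 1 := (F_cases _).resolve_left ha
    have hcv : L c = W.fl (fc a (μ a)) := by
      rw [hLc v₁ hf1, hv₁]
      congr 1
      funext i
      rw [Pi.add_apply, Function.comp_apply, W.pm_p]
      rcases eq_or_ne i a with rfl | h1
      · rw [Equiv.swap_apply_left, fc_left hma.symm, ha1]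
      rcases eq_or_ne i (μ a) with rfl | h2
      · rw [Equiv.swap_apply_right, fc_right hma.symm, add_comm, ha1]
      rw [Equiv.swap_apply_of_ne_of_ne h1 h2, fc_other h1 h2, vec_add_self]
    refine Or.inl ⟨a, hma, hcv, fun v => ?_⟩
    have h1 := congrFun (congrArg W.v ((hdiff _ (P.mem v)).symm.trans (key v))) a
    simp only [W.mul_v, W.fl_v, W.fl_p, Pi.add_apply, Function.comp_apply, P.p_symm, P.v_perm,
      Equiv.Perm.one_symm, Equiv.Perm.one_apply] at h1
    rw [add_comm _ ((L v).v a), add_left_cancel_iff] at h1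
    rcases F_cases (f v) with e | e <;> rw [e] at h1 ⊢
    · simp only [true_iff]
      refine ((P.mem v).2 a).resolve_right fun e' => ?_
      rw [e', ha1, zero_smul, P.zero, W.one_v, Pi.zero_apply] at h1
      exact one_ne_zero h1
    · simp only [one_ne_zero, false_iff]
      intro e'
      rw [one_smul, hcv, W.fl_v, fc_left hma.symm, e', vec_add_self] at h1
      exact zero_ne_one h1

end Par

end Cfsg.Agent.AltClasses
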