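import Cfsg.Agent.Lib.AltClasses.Aut

/-!
The centres of the transvections fixing `t`: their sum is `t`, and off the flips two functionals kill all
of them.
-/

set_option autoImplicit false
set_option linter.unusedSectionVars false
set_option linter.style.haveILetI false

namespace Cfsg.Agent.AltClasses

open SylClasses

local notation "F" => ZMod 2

section sums

variable {ι : Type*} [Fintype ι] [DecidableEq ι]

theorem fc_right_inj {x b b' : ι} (hb : x ≠ b) (hb' : x ≠ b') (h : fc x b = fc x b') : b = b' := by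
  by_contra hne
  have := congrFun h b
  rw [fc_right hb, fc_other hb.symm hne] at this
  exact one_ne_zero this

theorem fc_comm (a b : ι) : fc a b = fc b a := add_comm _ _

/-- The value of a sum of centres at a point. -/
theorem sum_fc {S : Finset (ι → F)} {R : ι → ι → Prop} [DecidableRel R] (hR : ∀ a b, R a b → a ≠ b)
    (hsymm : ∀ a b, R a b → R b a) (hS : ∀ y, y ∈ S ↔ ∃ a b, R a b ∧ y = fc a b) (x : ι) :
    (∑ y ∈ S, y) x = ((Finset.univ.filter (R x)).card : F) := by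
  have e : (Finset.univ.filter (R x)).image (fc x) = S.filter fun y => y x = 1 := by
    ext y
    simp only [Finset.mem_image, Finset.mem_filter, Finset.mem_univ, true_and, hS]
    constructor
    · rintro ⟨b, hb, rfl⟩
      exact ⟨⟨x, b, hb, rfl⟩, fc_left (hR _ _ hb)⟩
    · rintro ⟨⟨a, b, hab, rfl⟩, hx⟩
      rcases eq_or_ne x a with rfl | h1
      · exact ⟨b, hab, rfl⟩
      rcases eq_or_ne x b with rfl | h2
      · exact ⟨a, hsymm _ _ hab, fc_comm _ _⟩
      rw [fc_other h1 h2] at hx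
      exact absurd hx zero_ne_one
  have hc : (S.filter fun y => y x = 1).card = (Finset.univ.filter (R x)).card := by
    rw [← e]
    refine Finset.card_image_of_injOn fun b hb b' hb' he => ?_
    simp only [Finset.coe_filter, Finset.mem_univ, true_and, Set.mem_setOf_eq] at hb hb'
    exact fc_right_inj (hR _ _ hb) (hR _ _ hb') he
  rw [← hc, Finset.sum_apply, Finset.card_eq_sum_ones, Nat.cast_sum, Finset.sum_filter]
  refine Finset.sum_congr rfl fun y _ => ?_
  rcases F_cases (y x) with h | h <;> simp [h]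

/-- An invariant vector sums over the fixed points. -/
theorem sum_invol {μ : ι → ι} (hμ : Function.Involutive μ) {v : ι → F} (hv : ∀ i, v (μ i) = v i) :
    ∑ i, v i = ∑ i ∈ Finset.univ.filter (fun i => μ i = i), v i := by
  rw [← Finset.sum_filter_add_sum_filter_not Finset.univ (fun i => μ i = i)]
  refine add_eq_left.2 (Finset.sum_involution (fun i _ => μ i) (fun i _ => ?_) (fun i hi _ => ?_)
    (fun i hi => ?_) fun i _ => hμ i)
  · rw [hv]; exact vec_add_self (v i)
  · exact (Finset.mem_filter.1 hi).2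
  · refine Finset.mem_filter.2 ⟨Finset.mem_univ _, fun e => (Finset.mem_filter.1 hi).2 ?_⟩
    exact hμ.injective e

end sums

section cset

variable {V : Type*} [AddCommGroup V] [Module F V] [Fintype V]

open Classical in
/-- The centres of the transvections fixing a vector. -/
noncomputable def cset (Γ : Subgroup (V ≃ₗ[F] V)) (u : V) : Finset V :=
  Finset.univ.filter fun c => ∃ f, IsTv Γ c f ∧ f u = 0

theorem mem_cset {Γ : Subgroup (V ≃ₗ[F] V)} {u c : V} : c ∈ cset Γ u ↔ ∃ f, IsTv Γ c f ∧ f u = 0 := by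
  simp [cset]

end cset

namespace Par

variable {ι : Type*} [Fintype ι] [DecidableEq ι] {V : Type*} [AddCommGroup V] [Module F V] {μ : ι → ι}
  {hμ : Function.Involutive μ} {L : V → W ι} (P : Par μ hμ L) {G : Type*} [Group G] (s : Setup ι G)
include P

theorem card_eq : Nat.card V = 2 ^ Fintype.card ι := by
  rw [← W.card_std hμ]
  refine Nat.card_congr (Equiv.ofBijective (fun v => (⟨L v, P.mem v⟩ : W.std μ hμ)) ⟨?_, ?_⟩)
  · exact fun u v e => P.inj (congrArg Subtype.val e)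
  · rintro ⟨a, ha⟩
    obtain ⟨v, rfl⟩ := (P.range a).1 ha
    exact ⟨v, rfl⟩

/-- A conjugate inside the centraliser is again parametrised. -/
theorem conj [Finite G] (g : G) (hg : ∀ v, g * s.emb (L v) * g⁻¹ ∈ Subgroup.centralizer ({s.t} : Set G)) :
    ∃ z : G, z * s.t = s.t * z ∧ ∃ μ' : ι → ι, ∃ hμ' : Function.Involutive μ', ∃ L' : V → W ι,
      Par μ' hμ' L' ∧ (∀ v, s.emb (L' v) = z * g * s.emb (L v) * (z * g)⁻¹) ∧
        ∃ hz : z ∈ Subgroup.centralizer ({s.t} : Set G), s.proj ⟨z, hz⟩ = 1 := by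
  set B := (s.bm μ hμ).map (MulAut.conj g).toMonoidHom with hB
  have hmem : ∀ v, s.emb (L v) ∈ s.bm μ hμ := fun v => ⟨L v, P.mem v, rfl⟩
  have hsur : ∀ x ∈ B, ∃ v, x = g * s.emb (L v) * g⁻¹ := by
    rintro _ ⟨_, ⟨a, ha, rfl⟩, rfl⟩
    obtain ⟨v, rfl⟩ := (P.range a).1 ha
    exact ⟨v, rfl⟩
  obtain ⟨z, hz, μ', hμ', e⟩ := s.exists_bm (B := B)
    (fun x hx => by obtain ⟨v, rfl⟩ := hsur x hx; exact hg v)
    (by rintro _ ⟨x, hx, rfl⟩; rw [← map_mul, s.bm_sq hx, map_one])
    (by rw [Subgroup.card_map_of_injective (MulAut.conj g).injective, s.card_bm])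
  have key : ∀ v, ∃ a ∈ W.std μ' hμ', s.emb a = (z : G) * g * s.emb (L v) * ((z : G) * g)⁻¹ := by
    intro v
    have h1 : (z : G) * (g * s.emb (L v) * g⁻¹) * (z : G)⁻¹ ∈ s.bm μ' hμ' := by
      rw [← e]
      exact ⟨_, ⟨_, hmem v, rfl⟩, rfl⟩
    obtain ⟨a, ha, ea⟩ := h1
    exact ⟨a, ha, ea.trans (by group)⟩
  choose L' hL' heq using key
  refine ⟨z, Subgroup.mem_centralizer_singleton_iff.1 z.2, μ', hμ', L', ⟨fun u v => s.inj ?_, ?_, ?_⟩, heq,
    z.2, hz⟩
  · rw [map_mul, heq, heq, heq, P.add, map_mul]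
    group
  · intro u v h
    have := heq u
    rw [h, heq, mul_left_inj, mul_right_inj] at this
    exact P.inj (s.inj this.symm)
  · intro a
    refine ⟨fun ha => ?_, fun ⟨v, ev⟩ => ev ▸ hL' v⟩
    have h1 : s.emb a ∈ B.map (MulAut.conj (z : G)).toMonoidHom := by rw [e]; exact ⟨a, ha, rfl⟩
    obtain ⟨x, hx, ex⟩ := h1
    obtain ⟨v, rfl⟩ := hsur x hx
    refine ⟨v, s.inj ?_⟩
    rw [← ex, heq]
    show _ = (z : G) * (g * s.emb (L v) * g⁻¹) * (z : G)⁻¹
    group

theorem rel_symm (a b : ι) (h : PairRel μ a b) : PairRel μ b a := by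
  refine ⟨h.1.symm, ?_⟩
  rcases h.2 with e | ⟨e, e'⟩
  · exact Or.inl (by rw [← e, hμ])
  · exact Or.inr ⟨e', e⟩

theorem cset_iff [Fintype V] {vt : V} (hvt : L vt = W.zz) (c : V) :
    c ∈ cset (autGrp fun v => s.emb (L v)) vt ↔ ∃ a b, PairRel μ a b ∧ L c = W.fl (fc a b) := by
  rw [mem_cset]
  constructor
  · rintro ⟨f, h, hf⟩
    rcases P.tv_cases s h hvt hf with ⟨a, ha, e, -⟩ | ⟨a, b, hab, ha, hb, e, -⟩
    · exact ⟨a, μ a, ⟨Ne.symm ha, Or.inl rfl⟩, e⟩
    · exact ⟨a, b, ⟨hab, Or.inr ⟨ha, hb⟩⟩, e⟩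
  · rintro ⟨a, b, ⟨hab, h⟩, e⟩
    rcases h with rfl | ⟨ha, hb⟩
    · obtain ⟨c', f, hf, e', hf'⟩ := P.tv_pair s (Ne.symm hab)
      obtain rfl := P.inj (e.trans e'.symm)
      exact ⟨f, hf, (hf' _).2 (by rw [hvt]; rfl)⟩
    · obtain ⟨c', f, hf, e', hf'⟩ := P.tv_single s hab ha hb
      obtain rfl := P.inj (e.trans e'.symm)
      exact ⟨f, hf, (hf' _).2 (by rw [hvt]; rfl)⟩

/-- The centres sum to `t`. -/
theorem sum_centres [Fintype V] {vt : V} (hvt : L vt = W.zz) :
    ∑ c ∈ cset (autGrp fun v => s.emb (L v)) vt, c = vt := by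
  classical
  set S := cset (autGrp fun v => s.emb (L v)) vt
  obtain ⟨fv, hfv⟩ := P.exists_fv
  have hflip : ∀ c ∈ S, L c = W.fl (L c).v := fun c hc => by
    obtain ⟨a, b, -, e⟩ := (P.cset_iff s hvt c).1 hc
    rw [e]; rfl
  have hinj : Set.InjOn fv S := fun c hc c' hc' e => P.inj (by
    rw [hflip c hc, hflip c' hc', ← hfv, ← hfv, e])
  have himg : ∀ y, y ∈ S.image fv ↔ ∃ a b, PairRel μ a b ∧ y = fc a b := fun y => by
    simp only [Finset.mem_image]
    constructor
    · rintro ⟨c, hc, rfl⟩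
      obtain ⟨a, b, hab, e⟩ := (P.cset_iff s hvt c).1 hc
      exact ⟨a, b, hab, by rw [hfv, e]; rfl⟩
    · rintro ⟨a, b, hab, rfl⟩
      have hin : W.InvVec μ (fc a b) := fun i => by
        rcases hab.2 with rfl | ⟨ha, hb⟩
        · simp only [fc, Pi.add_apply, Pi.single_apply, hμ.injective.eq_iff,
            show μ i = a ↔ i = μ a from ⟨fun e => by rw [← e, hμ], fun e => by rw [e, hμ]⟩]
          exact add_comm _ _
        · have ea : μ i = a ↔ i = a := ⟨fun e => hμ.injective (e.trans ha.symm), fun e => e ▸ ha⟩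
          have eb : μ i = b ↔ i = b := ⟨fun e => hμ.injective (e.trans hb.symm), fun e => e ▸ hb⟩
          simp only [fc, Pi.add_apply, Pi.single_apply, ea, eb]
      obtain ⟨c, hc⟩ := (P.range (W.fl (fc a b))).1 (W.fl_mem_std.2 hin)
      exact ⟨c, (P.cset_iff s hvt c).2 ⟨a, b, hab, hc⟩, by rw [hfv, hc]; rfl⟩
  have hp : (L (∑ c ∈ S, c)).p = 1 := by
    refine Finset.sum_induction (fun c => c) (fun v => (L v).p = 1) (fun u v hu hv => ?_) ?_ fun c hc => ?_
    · rw [P.add, W.mul_p, hu, hv, one_mul]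
    · rw [P.zero]; rfl
    · rw [hflip c hc]; rfl
  refine P.inj ?_
  rw [hvt]
  refine W.ext (funext fun x => ?_) hp
  rw [← hfv, map_sum, ← Finset.sum_image (g := fv) (f := fun y => y) hinj,
    sum_fc (R := PairRel μ) (fun _ _ h => h.1) P.rel_symm himg]
  show _ = (1 : F)
  rcases eq_or_ne (μ x) x with hx | hx
  · have e : Finset.univ.filter (PairRel μ x) = (Finset.univ.filter fun i => μ i = i).erase x := by
      ext b
      simp only [Finset.mem_filter, Finset.mem_univ, true_and, Finset.mem_erase, PairRel]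
      exact ⟨fun ⟨h1, h2⟩ => ⟨h1.symm, h2.elim (fun e => absurd (hx.symm.trans e) h1) fun e => e.2⟩,
        fun ⟨h1, h2⟩ => ⟨h1.symm, Or.inr ⟨hx, h2⟩⟩⟩
    rw [e, Finset.card_erase_of_mem (by simp [hx])]
    have h0 : ((Finset.univ.filter fun i => μ i = i).card : F) = 0 := by
      have h := sum_invol hμ (v := fun _ => (1 : F)) fun _ => rfl
      rw [Finset.sum_const, Finset.sum_const, Finset.card_univ, s.card_eq, nsmul_one, nsmul_one,
        Nat.cast_mul, Nat.cast_ofNat, show (2 : F) = 0 from rfl, zero_mul] at h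
      exact h.symm
    rw [Nat.cast_sub (Finset.card_pos.2 ⟨x, by simp [hx]⟩), h0]
    rfl
  · have e : Finset.univ.filter (PairRel μ x) = {μ x} := by
      ext b
      simp only [Finset.mem_filter, Finset.mem_univ, true_and, Finset.mem_singleton, PairRel]
      exact ⟨fun ⟨_, h2⟩ => h2.elim Eq.symm fun e => absurd e.1 hx, fun e => ⟨e ▸ hx.symm, Or.inl e.symm⟩⟩
    rw [e, Finset.card_singleton, Nat.cast_one]

/-- Off the flips, two functionals kill all those centres. -/
theorem two_killers [Fintype V] {vt : V} (hvt : L vt = W.zz) {a : ι} (ha : μ a ≠ a) :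
    ∃ l₁ l₂ : V →ₗ[F] F, l₁ ≠ 0 ∧ l₂ ≠ 0 ∧ l₁ ≠ l₂ ∧
      ∀ c ∈ cset (autGrp fun v => s.emb (L v)) vt, l₁ c = 0 ∧ l₂ c = 0 := by
  classical
  obtain ⟨l₁, h₁⟩ := P.exists_sp a
  obtain ⟨v₁, hv₁⟩ := (P.range (W.pm (Equiv.swap a (μ a)))).1 ⟨fun _ => rfl, fun i => by
    rw [W.pm_p]
    rcases eq_or_ne i a with rfl | h1
    · exact Or.inr (Equiv.swap_apply_left _ _)
    rcases eq_or_ne i (μ a) with rfl | h2
    · rw [hμ]; exact Or.inr (Equiv.swap_apply_right _ _)
    exact Or.inl (Equiv.swap_apply_of_ne_of_ne h1 h2)⟩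
  have hl1 : l₁ v₁ ≠ 0 := fun e => by
    have := (h₁ v₁).1 e
    rw [hv₁, W.pm_p, Equiv.swap_apply_left] at this
    exact ha this
  have hk : ∀ (l : V →ₗ[F] F) a', (∀ v, l v = 0 ↔ (L v).p a' = a') →
      ∀ c ∈ cset (autGrp fun v => s.emb (L v)) vt, l c = 0 := fun l a' hl c hc => by
    obtain ⟨x, y, -, e⟩ := (P.cset_iff s hvt c).1 hc
    exact (hl c).2 (by rw [e]; rfl)
  have hne1 : l₁ ≠ 0 := fun e => hl1 (by rw [e]; rfl)
  obtain ⟨i, hia, hib⟩ : ∃ i, i ≠ a ∧ i ≠ μ a := by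
    by_contra h
    push Not at h
    have hc : Fintype.card ι ≤ ({a, μ a} : Finset ι).card := Finset.card_le_card fun i _ => by
      rcases eq_or_ne i a with e | e
      · simp [e]
      · simp [h i e]
    have h2 := Finset.card_le_two (a := a) (b := μ a)
    have := s.card_eq
    have := s.two_le
    omega
  rcases eq_or_ne (μ i) i with hi | hi
  · obtain ⟨fv, hfv⟩ := P.exists_fv
    set l₂ : V →ₗ[F] F := (∑ j ∈ Finset.univ.filter (fun j => μ j = j),
      (LinearMap.proj j : (ι → F) →ₗ[F] F)).comp fv with hl₂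
    have h₂ : ∀ v, l₂ v = ∑ j ∈ Finset.univ.filter (fun j => μ j = j), (L v).v j := fun v => by
      simp [hl₂, hfv]
    obtain ⟨v₂, hv₂⟩ := (P.range (W.fl (Pi.single i 1))).1 (W.fl_mem_std.2 fun j => by
      rcases eq_or_ne j i with rfl | h1
      · rw [hi]
      rw [Pi.single_eq_of_ne h1, Pi.single_eq_of_ne fun e => h1 (hμ.injective (e.trans hi.symm))])
    have hl2 : l₂ v₂ = 1 := by
      rw [h₂, hv₂, W.fl_v, Finset.sum_eq_single i (fun j _ hj => Pi.single_eq_of_ne hj _) (by simp [hi]),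
        Pi.single_eq_same]
    refine ⟨l₁, l₂, hne1, fun e => one_ne_zero (hl2.symm.trans (by rw [e]; rfl)), fun e => ?_,
      fun c hc => ⟨hk l₁ a h₁ c hc, ?_⟩⟩
    · have : l₁ v₂ = 0 := (h₁ v₂).2 (by rw [hv₂]; rfl)
      rw [e, hl2] at this
      exact one_ne_zero this
    · obtain ⟨x, y, hxy, e⟩ := (P.cset_iff s hvt c).1 hc
      rw [h₂, e, W.fl_v]
      rcases hxy.2 with rfl | ⟨hx, hy⟩
      · refine Finset.sum_eq_zero fun j hj => fc_other (fun e => hxy.1 ?_) fun e => hxy.1 ?_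
        · subst e; exact (Finset.mem_filter.1 hj).2.symm
        · subst e; exact hμ.injective (Finset.mem_filter.1 hj).2.symm
      · simp only [fc, Pi.add_apply, Finset.sum_add_distrib, Finset.sum_pi_single', Finset.mem_filter,
          Finset.mem_univ, true_and, hx, hy, if_true]
        exact vec_add_self (1 : F)
  · obtain ⟨l₂, h₂⟩ := P.exists_sp i
    obtain ⟨v₂, hv₂⟩ := (P.range (W.pm (Equiv.swap i (μ i)))).1 ⟨fun _ => rfl, fun j => by
      rw [W.pm_p]
      rcases eq_or_ne j i with rfl | h1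
      · exact Or.inr (Equiv.swap_apply_left _ _)
      rcases eq_or_ne j (μ i) with rfl | h2
      · rw [hμ]; exact Or.inr (Equiv.swap_apply_right _ _)
      exact Or.inl (Equiv.swap_apply_of_ne_of_ne h1 h2)⟩
    have hl2 : l₂ v₂ ≠ 0 := fun e => by
      have := (h₂ v₂).1 e
      rw [hv₂, W.pm_p, Equiv.swap_apply_left] at this
      exact hi this
    refine ⟨l₁, l₂, hne1, fun e => hl2 (by rw [e]; rfl), fun e => hl2 ?_,
      fun c hc => ⟨hk l₁ a h₁ c hc, hk l₂ i h₂ c hc⟩⟩
    rw [← e]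
    refine (h₁ v₂).2 ?_
    rw [hv₂, W.pm_p, Equiv.swap_apply_of_ne_of_ne (fun e => hia e.symm) fun e => hib ?_]
    rw [e, hμ]

end Par

end Cfsg.Agent.AltClasses
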