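import Cfsg.Agent.Lib.AltClasses.Points

/-!
The flips are weakly closed, so conjugacy of flips is governed by their normaliser.
-/

set_option autoImplicit false
set_option linter.unusedSectionVars false
set_option linter.style.haveILetI false

namespace Cfsg.Agent.AltClasses

open SylClasses

local notation "F" => ZMod 2

variable {ι : Type*} [Fintype ι] [DecidableEq ι] {G : Type*} [Group G] [Finite G] (s : Setup ι G)
variable (hB : TypeB s)
include hB

/-- A conjugate of the flips inside the centraliser consists of flips modulo the kernel. -/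
theorem proj_conj_flip (g : G) (hg : ∀ v, g * s.emb (W.fl v) * g⁻¹ ∈ Subgroup.centralizer ({s.t} : Set G))
    (v : ι → F) : (s.proj ⟨_, hg v⟩).p = 1 := by
  obtain ⟨z, hz, μ', hμ', L', P', heq, hzC, hzp⟩ := (parD (ι := ι)).conj s g hg
  have hproj : ∀ v, s.proj ⟨_, hg v⟩ = L' v := fun v => by
    have e : (⟨s.emb (L' v), s.emb_mem _⟩ : ↥(Subgroup.centralizer ({s.t} : Set G))) =
        ⟨z, hzC⟩ * ⟨_, hg v⟩ * (⟨z, hzC⟩)⁻¹ := Subtype.ext ((heq v).trans (by
          show _ = z * (g * s.emb (W.fl v) * g⁻¹) * z⁻¹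
          group))
    have h := congrArg s.proj e
    rwa [s.proj_emb, map_mul, map_mul, map_inv, hzp, inv_one, one_mul, mul_one, eq_comm] at h
  rw [hproj]
  by_cases hμid : ∃ a, μ' a ≠ a
  · exfalso
    obtain ⟨a, ha⟩ := hμid
    obtain ⟨u, hu⟩ := P'.exists_t
    obtain ⟨l₁, l₂, n1, n2, n12, hl⟩ := P'.two_killers s hu ha
    rw [autGrp_conj (E := fun v => s.emb (W.fl v)) (g := z * g) heq] at hl
    have hu0 : u ≠ 0 := fun e => by
      rw [e, P'.zero] at hu
      obtain ⟨b⟩ := card_pos' s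
      exact zero_ne_one (congrFun (congrArg W.v hu) b)
    obtain ⟨x₀, hx₀⟩ : ∃ x, pc u x = 1 := by
      by_contra hn
      push Not at hn
      exact hu0 (funext fun b => (F_cases _).resolve_right (hn (some b)))
    obtain ⟨y₀, hy₀⟩ : ∃ x, pc u x = 0 := by
      by_contra hn
      push Not at hn
      have h1 : ∀ x, pc u x = 1 := fun x => (F_cases _).resolve_left (hn x)
      have := h1 none
      rw [pc, show u = fun _ => 1 from funext fun b => h1 (some b), Finset.sum_const, Finset.card_univ, s.card_eq,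
        nsmul_one, Nat.cast_mul, Nat.cast_ofNat, show (2 : F) = 0 from rfl, zero_mul] at this
      exact zero_ne_one this
    -- a functional killing the centres is determined by one value
    have det : ∀ l : (ι → F) →ₗ[F] F, (∀ c ∈ cset (gD s) u, l c = 0) → l ≠ 0 →
        ∀ x, l (pd x) = if pc u x = pc u none then 0 else 1 := by
      intro l hl hl0
      have eqc : ∀ x y, pc u x = pc u y → l (pd x) = l (pd y) := fun x y e => by
        rcases eq_or_ne x y with rfl | hxy
        · rfl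
        have := hl _ (mem_cset.2 ⟨_, tv_mem s hB hxy, by
          rw [LinearMap.add_apply, pg_apply, pg_apply, e, vec_add_self]⟩)
        rw [map_add] at this
        exact CharTwo.add_eq_zero.1 this
      intro x
      have h0 : l (pd none) = 0 := map_zero l
      by_cases hx : pc u x = pc u none
      · rw [if_pos hx, eqc x none hx, h0]
      · rw [if_neg hx]
        refine (F_cases _).resolve_left fun e => hl0 (LinearMap.ext fun v => ?_)
        rw [flips_expand v l, LinearMap.zero_apply]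
        refine Finset.sum_eq_zero fun b _ => mul_eq_zero_of_right _ ?_
        by_cases hb : pc u (some b) = pc u none
        · exact (eqc _ none hb).trans h0
        · refine (eqc (some b) x ?_).trans e
          exact (by decide : ∀ p q r : F, p ≠ r → q ≠ r → p = q) _ _ _ hb hx
    refine n12 (LinearMap.ext fun v => ?_)
    rw [flips_expand v l₁, flips_expand v l₂]
    refine Finset.sum_congr rfl fun b _ => ?_
    rw [show Pi.single b (1 : F) = pd (some b) from rfl, det l₁ (fun c hc => (hl c hc).1) n1,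
      det l₂ (fun c hc => (hl c hc).2) n2]
  · push Not at hμid
    exact Equiv.ext fun i => ((P'.mem v).2 i).elim id fun e => e.trans (hμid i)

/-- The flips are weakly closed in every 2-subgroup. -/
theorem weakly_closed {P : Subgroup G} (hP : IsPGroup 2 P) (hDP : s.D ≤ P) (g : G)
    (hg : ∀ v, g * s.emb (W.fl v) * g⁻¹ ∈ P) (v : ι → F) :
    ∃ v', g * s.emb (W.fl v) * g⁻¹ = s.emb (W.fl v') := by
  haveI : Fact (Nat.Prime 2) := ⟨Nat.prime_two⟩
  obtain ⟨S, hDS, hS⟩ := exists_sylow s (isPGroup_bm s _ _) (s.bm_le id fun _ => rfl)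
  obtain ⟨T, hT⟩ := hP.exists_le_sylow
  obtain ⟨k, hk⟩ := MulAction.exists_smul_eq G T S
  have hin : ∀ x ∈ P, k * x * k⁻¹ ∈ (S : Subgroup G) := fun x hx => by
    rw [← hk]
    exact Subgroup.smul_mem_pointwise_smul _ (MulAut.conj k) _ (hT hx)
  have hinj : ∀ x y (hx : x ∈ (S : Subgroup G)) (hy : y ∈ (S : Subgroup G)),
      s.proj ⟨x, hS hx⟩ = s.proj ⟨y, hS hy⟩ → x = y := by
    intro x y hx hy e
    set q : ↥(Subgroup.centralizer ({s.t} : Set G)) := ⟨x, hS hx⟩ * (⟨y, hS hy⟩)⁻¹ with hq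
    have hker : q ∈ s.proj.ker := by rw [MonoidHom.mem_ker, hq, map_mul, map_inv, e, mul_inv_cancel]
    have hqS : (q : G) ∈ (S : Subgroup G) := mul_mem hx (inv_mem hy)
    have h1 : orderOf q ∣ Nat.card s.proj.ker := by
      rw [← Subgroup.orderOf_mk q hker]
      exact orderOf_dvd_natCard _
    obtain ⟨j, hj⟩ := IsPGroup.iff_orderOf.1 S.isPGroup' ⟨q, hqS⟩
    rw [Subgroup.orderOf_mk, Subgroup.orderOf_coe] at hj
    rw [hj] at h1
    have h2 : j = 0 := by
      by_contra hj0
      exact Nat.not_even_iff_odd.2 s.ker_odd (even_iff_two_dvd.2 ((dvd_pow_self 2 hj0).trans h1))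
    rw [h2, pow_zero, orderOf_eq_one_iff] at hj
    exact mul_inv_eq_one.1 (congrArg Subtype.val hj)
  have ha : ∀ v, k * g * s.emb (W.fl v) * (k * g)⁻¹ ∈ (S : Subgroup G) := fun v => by
    rw [show k * g * s.emb (W.fl v) * (k * g)⁻¹ = k * (g * s.emb (W.fl v) * g⁻¹) * k⁻¹ by group]
    exact hin _ (hg v)
  have hb : ∀ v, k * s.emb (W.fl v) * k⁻¹ ∈ (S : Subgroup G) := fun v => hin _ (hDP (s.fl_mem_D v))
  have hpa := proj_conj_flip s hB (k * g) (fun v => hS (ha v)) v
  have hpb := proj_conj_flip s hB k fun v => hS (hb v)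
  obtain ⟨v', hv'⟩ := (Finite.injective_iff_surjective
    (f := fun v => (s.proj ⟨_, hS (hb v)⟩).v)).1 (fun u w e => by
      have h := hinj _ _ (hb u) (hb w) (W.ext e ((hpb u).trans (hpb w).symm))
      rw [mul_left_inj, mul_right_inj] at h
      exact W.fl_inj.1 (s.inj h)) (s.proj ⟨_, hS (ha v)⟩).v
  refine ⟨v', ?_⟩
  have h := hinj _ _ (ha v) (hb v') (W.ext hv'.symm (hpa.trans (hpb v').symm))
  rw [show k * g * s.emb (W.fl v) * (k * g)⁻¹ = k * (g * s.emb (W.fl v) * g⁻¹) * k⁻¹ by group, mul_left_inj,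
    mul_right_inj] at h
  exact h

/-- Conjugate flips are conjugate by the normaliser of the flips. -/
theorem fusion_flips {u v : ι → F} {g : G} (h : g * s.emb (W.fl u) * g⁻¹ = s.emb (W.fl v)) :
    ∃ φ ∈ gD s, φ u = v := by
  haveI : Fact (Nat.Prime 2) := ⟨Nat.prime_two⟩
  set H := Subgroup.centralizer ({s.emb (W.fl v)} : Set G)
  have hD : s.D ≤ H := fun x hx =>
    Subgroup.mem_centralizer_singleton_iff.2 (s.bm_comm hx (s.fl_mem_D v))
  set D' := s.D.map (MulAut.conj g).toMonoidHom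
  have hD' : D' ≤ H := by
    rintro _ ⟨x, hx, rfl⟩
    rw [Subgroup.mem_centralizer_singleton_iff, ← h]
    show g * x * g⁻¹ * (g * s.emb (W.fl u) * g⁻¹) = g * s.emb (W.fl u) * g⁻¹ * (g * x * g⁻¹)
    rw [show g * x * g⁻¹ * (g * s.emb (W.fl u) * g⁻¹) = g * (x * s.emb (W.fl u)) * g⁻¹ by group,
      s.bm_comm hx (s.fl_mem_D u)]
    group
  obtain ⟨P, hP⟩ := (show IsPGroup 2 (s.D.subgroupOf H) from (isPGroup_bm s _ _).comap_subtype).exists_le_sylow
  obtain ⟨Q, hQ⟩ := (show IsPGroup 2 (D'.subgroupOf H) from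
    ((isPGroup_bm s _ _).map _).comap_subtype).exists_le_sylow
  obtain ⟨k, hk⟩ := MulAction.exists_smul_eq H Q P
  set P' := (P : Subgroup H).map H.subtype
  have hDP : s.D ≤ P' := fun x hx => ⟨⟨x, hD hx⟩, hP (show (⟨x, hD hx⟩ : H) ∈ s.D.subgroupOf H from hx), rfl⟩
  have hgP : ∀ w, (k : G) * g * s.emb (W.fl w) * ((k : G) * g)⁻¹ ∈ P' := fun w => by
    have hm : g * s.emb (W.fl w) * g⁻¹ ∈ D' := ⟨_, s.fl_mem_D w, rfl⟩
    refine ⟨k * ⟨_, hD' hm⟩ * k⁻¹, ?_, ?_⟩
    · rw [← hk]
      exact Subgroup.smul_mem_pointwise_smul _ (MulAut.conj k) _ (hQ (show (⟨_, hD' hm⟩ : H) ∈ _ from hm))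
    · show (k : G) * (g * s.emb (W.fl w) * g⁻¹) * (k : G)⁻¹ = _
      group
  choose f hf using fun w => weakly_closed s hB (P.isPGroup'.map _) hDP _ hgP w
  have hadd : ∀ a b, f (a + b) = f a + f b := fun a b => by
    refine W.fl_inj.1 (s.inj ?_)
    rw [← hf, W.fl_add, W.fl_add, map_mul, map_mul, ← hf, ← hf]
    group
  have hinj : Function.Injective f := fun a b e => by
    have h' := hf a
    rw [e, ← hf, mul_left_inj, mul_right_inj] at h'
    exact W.fl_inj.1 (s.inj h')
  let fL : (ι → F) →ₗ[F] (ι → F) := AddMonoidHom.toZModLinearMap 2 (AddMonoidHom.mk' f hadd)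
  refine ⟨LinearEquiv.ofBijective fL ⟨hinj, Finite.injective_iff_surjective.1 hinj⟩,
    ⟨(k : G) * g, fun w => hf w⟩, W.fl_inj.1 (s.inj ?_)⟩
  show s.emb (W.fl (f u)) = _
  rw [← hf, show (k : G) * g * s.emb (W.fl u) * ((k : G) * g)⁻¹ = (k : G) * (g * s.emb (W.fl u) * g⁻¹) * (k : G)⁻¹ by group,
    h, Subgroup.mem_centralizer_singleton_iff.1 k.2, mul_inv_cancel_right]

/-- Conjugate flips have supports of equal size. -/
theorem card_of_conj {u v : ι → F} {g : G} (h : g * s.emb (W.fl u) * g⁻¹ = s.emb (W.fl v)) :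
    (psupp u).card = (psupp v).card := by
  obtain ⟨φ, hφ, rfl⟩ := fusion_flips s hB h
  exact (card_inv s hB hφ u).symm

/-- Flips with supports of equal size are conjugate. -/
theorem conj_of_card {u v : ι → F} (h : (psupp u).card = (psupp v).card) :
    ∃ g : G, g * s.emb (W.fl u) * g⁻¹ = s.emb (W.fl v) := by
  obtain ⟨φ, ⟨g, hg⟩, rfl⟩ := orbit_of_card s hB h
  exact ⟨g, hg u⟩

end Cfsg.Agent.AltClasses
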