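import Cfsg.Agent.Lib.AltClasses.SwapFused
import Mathlib.Algebra.Group.ConjFinite

/-!
Classes of involutions: they are the even sizes, once every involution is fused into the flips.
-/

set_option autoImplicit false
set_option linter.unusedSectionVars false
set_option linter.style.haveILetI false

namespace Cfsg.Agent.AltClasses

open SylClasses

local notation "F" => ZMod 2

variable {ι : Type*} [Fintype ι] [DecidableEq ι] {G : Type*} [Group G] [Finite G] (s : Setup ι G)

/-- Every involution is conjugate to a signed permutation. -/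
theorem exists_conj_emb {x : G} (hx : orderOf x = 2) :
    ∃ (g : G) (w : W ι), w * w = 1 ∧ g * x * g⁻¹ = s.emb w := by
  haveI : Fact (Nat.Prime 2) := ⟨Nat.prime_two⟩
  obtain ⟨S, -, hS⟩ := exists_sylow s (isPGroup_bm s _ _) (s.bm_le id fun _ => rfl)
  have hP : IsPGroup 2 (Subgroup.zpowers x) := IsPGroup.of_card (n := 1) (by rw [Nat.card_zpowers, hx, pow_one])
  obtain ⟨T, hT⟩ := hP.exists_le_sylow
  obtain ⟨k, hk⟩ := MulAction.exists_smul_eq G T S
  have hxS : k * x * k⁻¹ ∈ (S : Subgroup G) := by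
    rw [← hk]
    exact Subgroup.smul_mem_pointwise_smul _ (MulAut.conj k) _ (hT (Subgroup.mem_zpowers x))
  obtain ⟨z, -, hz⟩ := s.exists_conj (P := (S : Subgroup G)) S.isPGroup' hS
  obtain ⟨w, hw⟩ := hz _ hxS
  refine ⟨(z : G) * k, w, s.inj ?_, by rw [hw, mul_inv_rev]; simp only [mul_assoc]⟩
  have hxx : x * x = 1 := by rw [← pow_two, ← hx, pow_orderOf_eq_one]
  rw [map_mul, map_one, hw]
  calc (z : G) * (k * x * k⁻¹) * (z : G)⁻¹ * ((z : G) * (k * x * k⁻¹) * (z : G)⁻¹)
      = (z : G) * k * (x * x) * (k⁻¹ * (z : G)⁻¹) := by group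
    _ = 1 := by rw [hxx]; group

theorem exists_vec_card {k : ℕ} (hk : Even k) (hle : k ≤ Fintype.card ι) :
    ∃ v : ι → F, (psupp v).card = k := by
  obtain ⟨T, -, hT⟩ := Finset.exists_subset_card_eq (s := (Finset.univ : Finset ι)) (n := k)
    (by rwa [Finset.card_univ])
  refine ⟨fun a => if a ∈ T then 1 else 0, ?_⟩
  rw [← hT, ← Finset.card_map (s := T) Function.Embedding.some]
  congr 1
  ext z
  rw [mem_psupp]
  cases z with
  | none =>
    simp [pc, Finset.sum_boole, (ZMod.natCast_eq_zero_iff_even).2 (hT ▸ hk)]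
  | some a =>
    by_cases h : a ∈ T <;> simp [pc, h]

/-- The count of the classes. -/
theorem count_classes (hB : TypeB s)
    (hfused : ∀ w : W ι, w * w = 1 → ∃ (g : G) (v : ι → F), g * s.emb w * g⁻¹ = s.emb (W.fl v)) :
    Nat.card {c : ConjClasses G // ∃ x ∈ c.carrier, orderOf x = 2} = s.n := by
  have hrep : ∀ i : Fin s.n, ∃ v : ι → F, (psupp v).card = 2 * ((i : ℕ) + 1) := fun i =>
    exists_vec_card (even_two_mul _) (by rw [s.card_eq]; have := i.2; omega)
  choose v hv using hrep
  have hord : ∀ i, orderOf (s.emb (W.fl (v i))) = 2 := fun i => by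
    refine orderOf_eq_prime (by rw [pow_two, ← map_mul, W.fl_sq, map_one]) fun e => ?_
    have h0 : v i = 0 := W.fl_inj.1 (s.inj (by rw [e, W.fl_zero, map_one]))
    have := hv i
    rw [h0, show psupp (0 : ι → F) = ∅ from Finset.eq_empty_of_forall_notMem fun z hz => by
      rw [mem_psupp, ← pg_apply, map_zero] at hz
      exact zero_ne_one hz] at this
    simp at this
  let f : Fin s.n → {c : ConjClasses G // ∃ x ∈ c.carrier, orderOf x = 2} := fun i =>
    ⟨ConjClasses.mk (s.emb (W.fl (v i))), _, ConjClasses.mem_carrier_mk, hord i⟩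
  rw [← Nat.card_congr (Equiv.ofBijective f ⟨?_, ?_⟩), Nat.card_eq_fintype_card, Fintype.card_fin]
  · intro i j e
    have h := ConjClasses.mk_eq_mk_iff_isConj.1 (congrArg Subtype.val e)
    obtain ⟨g, hg⟩ := isConj_iff.1 h
    have := card_of_conj s hB hg
    rw [hv, hv] at this
    exact Fin.ext (by omega)
  · rintro ⟨c, x, hx, hox⟩
    obtain ⟨g, w, hw, hgw⟩ := exists_conj_emb s hox
    obtain ⟨k, u, hu⟩ := hfused w hw
    have hxu : (k * g) * x * (k * g)⁻¹ = s.emb (W.fl u) := by
      rw [← hu, ← hgw]; group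
    obtain ⟨j, hj⟩ := psupp_even u
    have hpos : 0 < (psupp u).card := by
      rw [Finset.card_pos]
      by_contra hn
      have hu0 : u = 0 := psupp_inj (by
        rw [Finset.not_nonempty_iff_eq_empty.1 hn]
        exact (Finset.eq_empty_of_forall_notMem fun z hz => by
          rw [mem_psupp, ← pg_apply, map_zero] at hz
          exact zero_ne_one hz).symm)
      rw [hu0, W.fl_zero, map_one, conj_eq_one_iff] at hxu
      rw [hxu, orderOf_one] at hox
      omega
    have hle := Finset.card_le_univ (psupp u)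
    rw [Fintype.card_option, s.card_eq] at hle
    refine ⟨⟨j - 1, by omega⟩, Subtype.ext ?_⟩
    obtain ⟨h, hh⟩ := conj_of_card s hB (u := v ⟨j - 1, by omega⟩) (v := u) (by rw [hv]; simp only; omega)
    show ConjClasses.mk (s.emb (W.fl (v ⟨j - 1, _⟩))) = c
    rw [← ConjClasses.mem_carrier_iff_mk_eq.1 hx]
    exact ConjClasses.mk_eq_mk_iff_isConj.2 (isConj_iff.2 ⟨(k * g)⁻¹ * h, by
      calc (k * g)⁻¹ * h * s.emb (W.fl (v ⟨j - 1, _⟩)) * ((k * g)⁻¹ * h)⁻¹
          = (k * g)⁻¹ * (h * s.emb (W.fl (v ⟨j - 1, _⟩)) * h⁻¹) * (k * g) := by group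
        _ = (k * g)⁻¹ * (k * g * x * (k * g)⁻¹) * (k * g) := by rw [hh, hxu]
        _ = x := by group⟩)

end Cfsg.Agent.AltClasses
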