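import Cfsg.Agent.Lib.AltClasses.Transv
import Mathlib.Data.Fintype.Option

/-!
Transvections of a group acting on the flips: those fixing `t` are the transpositions, the others
extend them, up to a twist, to the transpositions on one more point.
-/

set_option autoImplicit false
set_option linter.unusedSectionVars false

namespace Cfsg.Agent.AltClasses

local notation "F" => ZMod 2

variable {X : Type*} [Fintype X] [DecidableEq X]

/-- The vector of all flips. -/
def ft : X → F := fun _ => 1

/-- The centre of a transposition of flips. -/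
def fc (a b : X) : X → F := Pi.single a 1 + Pi.single b 1

/-- The functional of a transposition of flips. -/
def ff (a b : X) : (X → F) →ₗ[F] F :=
  (LinearMap.proj a : (X → F) →ₗ[F] F) + LinearMap.proj b

theorem ff_apply (a b : X) (v : X → F) : ff a b v = v a + v b := rfl

theorem ff_single (a b x : X) : ff a b (Pi.single x 1) = fc a b x := by
  simp [ff_apply, fc, Pi.single_comm, Pi.single_apply, eq_comm]

theorem fc_left {a b : X} (h : a ≠ b) : fc a b a = 1 := by simp [fc, h]

theorem fc_right {a b : X} (h : a ≠ b) : fc a b b = 1 := by simp [fc, h.symm]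

theorem fc_other {a b x : X} (ha : x ≠ a) (hb : x ≠ b) : fc a b x = 0 := by simp [fc, ha, hb]

/-- The transpositions are exactly the transvections fixing the vector of all flips. -/
structure FlipSys (Γ : Subgroup ((X → F) ≃ₗ[F] (X → F))) : Prop where
  mem : ∀ a b, a ≠ b → IsTv Γ (fc a b) (ff a b)
  all : ∀ d g, IsTv Γ d g → g ft = 0 → ∃ a b, a ≠ b ∧ d = fc a b ∧ g = ff a b
  even : Even (Fintype.card X)
  four : 4 ≤ Fintype.card X

theorem flips_expand (v : X → F) (g : (X → F) →ₗ[F] F) : g v = ∑ x, v x * g (Pi.single x 1) := by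
  conv_lhs => rw [pi_eq_sum_univ v]
  rw [map_sum]
  refine Finset.sum_congr rfl fun x _ => ?_
  rw [map_smul, smul_eq_mul]
  congr 2
  funext y
  simp [Pi.single_apply, eq_comm]

theorem card_even_zero (h : Even (Fintype.card X)) : ((Fintype.card X : ℕ) : F) = 0 :=
  (ZMod.natCast_eq_zero_iff_even).2 h

variable {Γ : Subgroup ((X → F) ≃ₗ[F] (X → F))}

/-- A transvection moving the vector of all flips is concentrated at one point or off one point. -/
theorem flip_shape (S : FlipSys Γ) {d : X → F} {g : (X → F) →ₗ[F] F} (h : IsTv Γ d g)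
    (hg : g ft = 1) :
    ∃ a, (∀ x, g (Pi.single x 1) = (if x = a then 1 else 0) ∧ d x = if x = a then 0 else 1) ∨
      ∀ x, g (Pi.single x 1) = (if x = a then 0 else 1) ∧ d x = if x = a then 1 else 0 := by
  have htot : ∀ g : (X → F) →ₗ[F] F, g ft = ∑ x, g (Pi.single x 1) := fun g => by
    rw [flips_expand ft g]; exact Finset.sum_congr rfl fun x _ => one_mul _
  have hfix : ∀ a b : X, ff a b ft = 0 := fun a b => vec_add_self (1 : F)
  -- separated by the functional implies separated by the centre
  have R1 : ∀ d (g : (X → F) →ₗ[F] F), IsTv Γ d g → ∀ a b, a ≠ b → g (fc a b) = 1 → ff a b d = 1 := by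
    intro d g h a b hab hgab
    refine (F_cases _).resolve_left fun h0 => h.1 ?_
    have h2 := h.conj (S.mem a b hab)
    rw [hgab, one_smul, h0, zero_smul, add_zero] at h2
    obtain ⟨k, l, hkl, hd, hgl⟩ := S.all _ _ h2 (hfix a b)
    have : fc k l = fc a b := funext fun x => by rw [← ff_single, ← ff_single, hgl]
    rw [this] at hd
    exact add_eq_left.1 hd
  have R2 : ∀ a b, a ≠ b → ff a b d = 1 → g (fc a b) = 1 := by
    intro a b hab hd
    refine (F_cases _).resolve_left fun h0 => ?_
    have h2 := (S.mem a b hab).conj h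
    rw [hd, one_smul, h0, zero_smul, add_zero] at h2
    have h3 := h.prod_fun h2 fun e => (S.mem a b hab).1 (left_eq_add.1 e)
    rw [← add_assoc, vec_add_self, zero_add] at h3
    have key : ∀ x y, x ≠ y → g (fc x y) = 1 → fc a b x + fc a b y = 1 := fun x y hxy hh =>
      R1 _ _ h3 x y hxy hh
    have hab' : g (Pi.single a 1) = g (Pi.single b 1) := by
      rw [fc, map_add] at h0; exact CharTwo.add_eq_zero.1 h0
    have hrest : ∀ x y, x ≠ a → x ≠ b → y ≠ a → y ≠ b → g (Pi.single x 1) = g (Pi.single y 1) := by
      intro x y h1 h2 h3 h4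
      by_contra hne
      have hxy : x ≠ y := fun e => hne (by rw [e])
      have := key x y hxy (by
        rw [fc, map_add]
        rcases F_cases (g (Pi.single x 1)) with p | p <;> rcases F_cases (g (Pi.single y 1)) with r | r <;>
          rw [p, r] at hne ⊢ <;> first | exact absurd rfl hne | decide)
      rw [fc_other h1 h2, fc_other h3 h4] at this
      exact absurd this (by decide)
    rw [htot, ← Finset.sum_compl_add_sum {a, b}, Finset.sum_pair hab, hab', vec_add_self, add_zero] at hg
    obtain ⟨x₀, hx₀⟩ : ({a, b}ᶜ : Finset X).Nonempty := by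
      rw [← Finset.card_pos, Finset.card_compl, Finset.card_pair hab]
      have := S.four; omega
    simp only [Finset.mem_compl, Finset.mem_insert, Finset.mem_singleton, not_or] at hx₀
    rw [Finset.sum_congr rfl fun x hx => hrest x x₀ (by simp at hx; exact hx.1) (by simp at hx; exact hx.2)
      hx₀.1 hx₀.2, Finset.sum_const, nsmul_eq_mul, Finset.card_compl, Finset.card_pair hab,
      (ZMod.natCast_eq_zero_iff_even).2 (by have := S.four; rw [Nat.even_sub (by omega)]; exact iff_of_true S.even even_two), zero_mul] at hg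
    exact zero_ne_one hg
  -- centre and functional are complementary
  have hcompl : ∀ x, d x = g (Pi.single x 1) + 1 := by
    obtain ⟨x₁, hx₁⟩ : ∃ x, g (Pi.single x 1) = 1 := by
      by_contra hne
      push Not at hne
      rw [htot, Finset.sum_eq_zero fun x _ => (F_cases _).resolve_right (hne x)] at hg
      exact zero_ne_one hg
    have hrel : ∀ x, d x + d x₁ = g (Pi.single x 1) + g (Pi.single x₁ 1) := by
      intro x
      rcases eq_or_ne x x₁ with rfl | hne
      · rw [vec_add_self, vec_add_self]
      · rcases F_cases (g (fc x x₁)) with e | e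
        · rcases F_cases (ff x x₁ d) with e' | e'
          · rw [fc, map_add] at e; rw [e]; exact e'
          · rw [R2 x x₁ hne e'] at e; exact absurd e one_ne_zero
        · have := R1 d g h x x₁ hne e
          rw [fc, map_add] at e; rw [e]; exact this
    rcases F_cases (d x₁) with e | e
    · intro x
      have := hrel x
      rwa [e, add_zero, hx₁] at this
    · exfalso
      have h0 := h.2.2.1
      rw [flips_expand d g, Finset.sum_congr rfl fun x _ => show d x * g (Pi.single x 1) = g (Pi.single x 1) by
        have := hrel x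
        rw [e, hx₁, add_left_inj] at this
        rw [this]
        exact (by decide : ∀ a : F, a * a = a) _, ← htot, hg] at h0
      exact one_ne_zero h0
  -- the functional does not have three points on both sides
  set P := Finset.univ.filter fun x => g (Pi.single x 1) = 1 with hP
  have hodd : (P.card : F) = 1 := by
    rw [← hg, htot, Finset.card_eq_sum_ones, Nat.cast_sum, hP, Finset.sum_filter]
    refine Finset.sum_congr rfl fun x _ => ?_
    rcases F_cases (g (Pi.single x 1)) with e | e <;> simp [e]
  have hsmall : P.card < 3 ∨ Pᶜ.card < 3 := by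
    by_contra hc
    push Not at hc
    obtain ⟨K, hKP, hK⟩ := Finset.exists_subset_card_eq hc.1
    obtain ⟨L, hLP, hL⟩ := Finset.exists_subset_card_eq hc.2
    obtain ⟨a₁, a₂, a₃, ha12, ha13, ha23, rfl⟩ := Finset.card_eq_three.1 hK
    obtain ⟨b₁, b₂, b₃, hb12, hb13, hb23, rfl⟩ := Finset.card_eq_three.1 hL
    simp only [Finset.insert_subset_iff, Finset.singleton_subset_iff, hP, Finset.mem_filter,
      Finset.mem_univ, true_and, Finset.mem_compl] at hKP hLP
    obtain ⟨A1, A2, A3⟩ := hKP
    obtain ⟨B1, B2, B3⟩ := hLP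
    replace B1 := (F_cases _).resolve_right B1
    replace B2 := (F_cases _).resolve_right B2
    replace B3 := (F_cases _).resolve_right B3
    have ne : ∀ {a b}, g (Pi.single a 1) = 1 → g (Pi.single b 1) = 0 → a ≠ b := fun p r e => by
      rw [e, r] at p; exact zero_ne_one p
    have gc : ∀ {a b}, g (Pi.single a 1) = 1 → g (Pi.single b 1) = 0 → g (fc a b) = 1 := fun p r => by
      rw [fc, map_add, p, r, add_zero]
    have fd : ∀ {a b}, g (Pi.single a 1) = 1 → g (Pi.single b 1) = 0 → ff a b d = 1 := fun p r =>
      R1 d g h _ _ (ne p r) (gc p r)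
    have cross : ∀ {a b a' b' : X}, a ≠ a' → a ≠ b' → b ≠ a' → b ≠ b' → ff a b (fc a' b') = 0 := by
      intro a b a' b' h1 h2 h3 h4
      rw [ff_apply, fc_other h1 h2, fc_other h3 h4, add_zero]
    have h1 := (S.mem a₁ b₁ (ne A1 B1)).conj h
    rw [fd A1 B1, one_smul, gc A1 B1, one_smul] at h1
    have h2 := (S.mem a₂ b₂ (ne A2 B2)).conj h1
    rw [map_add, fd A2 B2, cross ha12.symm (ne A2 B1) (ne A1 B2).symm hb12.symm, add_zero, one_smul,
      LinearMap.add_apply, gc A2 B2, cross ha12 (ne A1 B2) (ne A2 B1).symm hb12, add_zero, one_smul] at h2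
    have h3 := (S.mem a₃ b₃ (ne A3 B3)).conj h2
    rw [map_add, map_add, fd A3 B3, cross ha13.symm (ne A3 B1) (ne A1 B3).symm hb13.symm,
      cross ha23.symm (ne A3 B2) (ne A2 B3).symm hb23.symm, add_zero, add_zero, one_smul,
      LinearMap.add_apply, LinearMap.add_apply, gc A3 B3, cross ha13 (ne A1 B3) (ne A3 B1).symm hb13,
      cross ha23 (ne A2 B3) (ne A3 B2).symm hb23, add_zero, add_zero, one_smul] at h3
    have h4 := h.conj h3
    have e1 : g (d + fc a₁ b₁ + fc a₂ b₂ + fc a₃ b₃) = 1 := by
      rw [map_add, map_add, map_add, h.2.2.1, gc A1 B1, gc A2 B2, gc A3 B3]; rfl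
    have e2 : (g + ff a₁ b₁ + ff a₂ b₂ + ff a₃ b₃) d = 1 := by
      rw [LinearMap.add_apply, LinearMap.add_apply, LinearMap.add_apply, h.2.2.1, fd A1 B1, fd A2 B2,
        fd A3 B3]
      rfl
    rw [e1, e2, one_smul, one_smul] at h4
    obtain ⟨k, l, hkl, hd, -⟩ := S.all _ _ h4 (by
      simp only [LinearMap.add_apply, hfix, hg, add_zero]
      exact vec_add_self (1 : F))
    have e3 : d + fc a₁ b₁ + fc a₂ b₂ + fc a₃ b₃ + d = fc a₁ b₁ + fc a₂ b₂ + fc a₃ b₃ := by
      rw [show d + fc a₁ b₁ + fc a₂ b₂ + fc a₃ b₃ + d = fc a₁ b₁ + fc a₂ b₂ + fc a₃ b₃ + (d + d) by abel,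
        vec_add_self, add_zero]
    rw [e3] at hd
    have one : ∀ x, x = a₁ ∨ x = a₂ ∨ x = a₃ → x = k ∨ x = l := by
      intro x hx
      by_contra hne
      rw [not_or] at hne
      have := congrFun hd x
      rw [fc_other hne.1 hne.2] at this
      rcases hx with rfl | rfl | rfl
      · rw [Pi.add_apply, Pi.add_apply, fc_left (ne A1 B1), fc_other ha12 (ne A1 B2),
          fc_other ha13 (ne A1 B3)] at this
        exact absurd this (by decide)
      · rw [Pi.add_apply, Pi.add_apply, fc_other ha12.symm (ne A2 B1), fc_left (ne A2 B2),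
          fc_other ha23 (ne A2 B3)] at this
        exact absurd this (by decide)
      · rw [Pi.add_apply, Pi.add_apply, fc_other ha13.symm (ne A3 B1), fc_other ha23.symm (ne A3 B2),
          fc_left (ne A3 B3)] at this
        exact absurd this (by decide)
    rcases one a₁ (Or.inl rfl) with e | e <;> rcases one a₂ (Or.inr (Or.inl rfl)) with e' | e' <;>
      rcases one a₃ (Or.inr (Or.inr rfl)) with e'' | e'' <;>
      first
        | exact ha12 (e.trans e'.symm)
        | exact ha13 (e.trans e''.symm)
        | exact ha23 (e'.trans e''.symm)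
  have hone : P.card = 1 ∨ Pᶜ.card = 1 := by
    have hc := Finset.card_compl_add_card P
    obtain ⟨k, hk⟩ := S.even
    have h1 : P.card % 2 = 1 := by
      rw [← Nat.odd_iff]; exact (ZMod.natCast_eq_one_iff_odd).1 hodd
    omega
  rcases hone with e | e
  · obtain ⟨a, ha⟩ := Finset.card_eq_one.1 e
    refine ⟨a, Or.inl fun x => ?_⟩
    have hx := Finset.ext_iff.1 ha x
    simp only [hP, Finset.mem_filter, Finset.mem_univ, true_and, Finset.mem_singleton] at hx
    rw [hcompl x]
    by_cases hxa : x = a
    · rw [hx.2 hxa, if_pos hxa, if_pos hxa]; exact ⟨rfl, rfl⟩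
    · rw [(F_cases _).resolve_right (mt hx.1 hxa), if_neg hxa, if_neg hxa]; exact ⟨rfl, rfl⟩
  · obtain ⟨a, ha⟩ := Finset.card_eq_one.1 e
    refine ⟨a, Or.inr fun x => ?_⟩
    have hx := Finset.ext_iff.1 ha x
    simp only [hP, Finset.mem_compl, Finset.mem_filter, Finset.mem_univ, true_and, Finset.mem_singleton] at hx
    rw [hcompl x]
    by_cases hxa : x = a
    · rw [(F_cases _).resolve_right (hx.2 hxa), if_pos hxa, if_pos hxa]; exact ⟨rfl, rfl⟩
    · rw [not_not.1 (mt hx.1 hxa), if_neg hxa, if_neg hxa]; exact ⟨rfl, rfl⟩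

end Cfsg.Agent.AltClasses
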