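import Cfsg.Agent.Lib.AltClasses.Moves
import Mathlib.Data.Fintype.Sigma

/-!
Every involution is fused into the flips: a conjugate moves it into one full matching, where a transvection
moving `t` lowers the number of swapped blocks.
-/

set_option autoImplicit false
set_option linter.unusedSectionVars false
set_option linter.style.haveILetI false

namespace Cfsg.Agent.AltClasses

open SylClasses

local notation "F" => ZMod 2

variable {ι : Type*} [Fintype ι] [DecidableEq ι]

/-- An enumeration by pairs of points of the same colour. -/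
theorem exists_pairing {K : Type*} [Fintype K] [DecidableEq K] (κ : ι → K)
    (h : ∀ k, Even (Finset.univ.filter fun i => κ i = k).card) {m : ℕ} (hm : Fintype.card ι = 2 * m) :
    ∃ f : Fin m × Bool ≃ ι, ∀ i, κ (f (i, true)) = κ (f (i, false)) := by
  classical
  choose l hl using h
  have hc : ∀ k, Fintype.card (Fin (l k) × Bool) = Fintype.card {i // κ i = k} := fun k => by
    rw [Fintype.card_prod, Fintype.card_fin, Fintype.card_bool, Fintype.card_subtype, hl, mul_two]
  let eA : (Σ k, Fin (l k)) × Bool ≃ ι :=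
    ((Equiv.sigmaProdDistrib (fun k => Fin (l k)) Bool).trans
      (Equiv.sigmaCongrRight fun k => Fintype.equivOfCardEq (hc k))).trans (Equiv.sigmaFiberEquiv κ)
  have hκ : ∀ q b, κ (eA (q, b)) = q.1 := fun q b => (Fintype.equivOfCardEq (hc q.1) (q.2, b)).2
  have hcard : Fintype.card (Σ k, Fin (l k)) = m := by
    have := Fintype.card_congr eA
    rw [Fintype.card_prod, Fintype.card_bool, hm] at this
    omega
  exact ⟨((Fintype.equivFinOfCardEq hcard).symm.prodCongr (Equiv.refl Bool)).trans eA, fun i => by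
    simp only [Equiv.trans_apply, Equiv.prodCongr_apply, Prod.map_apply, Equiv.refl_apply, hκ]⟩

section full

variable {m : ℕ} (e : Fin m × Bool ≃ ι)

/-- The partner in the full matching of an enumeration. -/
def mu0 (a : ι) : ι := e ((e.symm a).1, !(e.symm a).2)

theorem mu0_apply (i : Fin m) (b : Bool) : mu0 e (e (i, b)) = e (i, !b) := by simp [mu0]

theorem mu0_invol : Function.Involutive (mu0 e) := fun a => by simp [mu0]

theorem mu0_ne (a : ι) : mu0 e a ≠ a := fun h => by
  have := congrArg (fun x => (e.symm x).2) h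
  simp [mu0] at this

/-- The map of a vector of swaps. -/
def swapFun (α : Fin m → F) (a : ι) : ι := if α (e.symm a).1 = 1 then mu0 e a else a

theorem mu0_fst (a : ι) : (e.symm (mu0 e a)).1 = (e.symm a).1 := by simp [mu0]

theorem swapFun_invol (α : Fin m → F) : Function.Involutive (swapFun e α) := fun a => by
  simp only [swapFun]
  by_cases h : α (e.symm a).1 = 1
  · simp [h, mu0_fst, mu0_invol e a]
  · simp [h]

/-- The element of a vector in the full matching. -/
def L0 (x : BV (Fin m)) : W ι := ⟨fun a => x.2 (e.symm a).1, (swapFun_invol e x.1).toPerm⟩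

theorem L0_v (x : BV (Fin m)) (a : ι) : (L0 e x).v a = x.2 (e.symm a).1 := rfl

theorem L0_p (x : BV (Fin m)) (a : ι) : (L0 e x).p a = if x.1 (e.symm a).1 = 1 then mu0 e a else a := rfl

theorem L0_fst (x : BV (Fin m)) (a : ι) : (e.symm ((L0 e x).p a)).1 = (e.symm a).1 := by
  rw [L0_p]; split_ifs
  · exact mu0_fst e a
  · rfl

theorem par0 : Par (mu0 e) (mu0_invol e) (L0 e) where
  add x y := by
    refine W.ext (funext fun a => ?_) (Equiv.ext fun a => ?_)
    · obtain ⟨c, rfl⟩ := (L0 e x).p.surjective a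
      rw [W.mul_v, Pi.add_apply, Function.comp_apply, Equiv.symm_apply_apply, L0_v, L0_v, L0_v, L0_fst]
      rfl
    · rw [W.mul_p, Equiv.Perm.mul_apply, L0_p, L0_p, L0_p]
      rcases F_cases (x.1 (e.symm a).1) with h | h <;> rcases F_cases (y.1 (e.symm a).1) with h' | h' <;>
        simp [h, h', mu0_fst, mu0_invol e a, show (1 + 1 : F) = 0 from rfl]
  inj x y h := by
    refine Prod.ext (funext fun i => ?_) (funext fun i => ?_)
    · have := congrArg (fun w : W ι => w.p (e (i, false))) h
      simp only [L0_p, Equiv.symm_apply_apply] at this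
      have hne := mu0_ne e (e (i, false))
      rcases F_cases (x.1 i) with a | a <;> rcases F_cases (y.1 i) with b | b <;> rw [a, b] at this ⊢
      · simp [hne.symm] at this
      · simp [hne] at this
    · have := congrArg (fun w : W ι => w.v (e (i, false))) h
      simpa [L0_v] using this
  range w := by
    constructor
    · rintro ⟨hv, hp⟩
      refine ⟨⟨fun i => if w.p (e (i, false)) = e (i, false) then 0 else 1, fun i => w.v (e (i, false))⟩, ?_⟩
      have cases : ∀ a, a = e ((e.symm a).1, false) ∨ a = mu0 e (e ((e.symm a).1, false)) := fun a => by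
        rw [mu0_apply]
        rcases hb : (e.symm a).2 with _ | _
        · exact Or.inl (by rw [← hb]; exact (e.apply_symm_apply a).symm)
        · exact Or.inr (by rw [Bool.not_false, ← hb]; exact (e.apply_symm_apply a).symm)
      refine W.ext (funext fun a => ?_) (Equiv.ext fun a => ?_)
      · rw [L0_v]
        rcases cases a with h | h
        · exact congrArg w.v h.symm
        · exact (hv _).symm.trans (congrArg w.v h.symm)
      · rw [L0_p]
        set c := e ((e.symm a).1, false) with hcdef
        show (if (if w.p c = c then (0 : F) else 1) = 1 then mu0 e a else a) = w.p a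
        have hiff : w.p c = c ↔ w.p a = a := by
          rcases cases a with h | h
          · rw [← hcdef] at h; rw [← h]
          · rw [← hcdef] at h
            constructor
            · intro hc
              refine (hp a).resolve_right fun e' => ?_
              rw [h, mu0_invol e] at e'
              exact mu0_ne e c (w.p.injective (e'.trans hc.symm))
            · intro ha
              refine (hp c).resolve_right fun e' => ?_
              rw [← h] at e'
              exact mu0_ne e c (w.p.injective (ha.trans e'.symm) ▸ h.symm)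
        by_cases hc : w.p c = c
        · rw [if_pos hc, if_neg zero_ne_one, hiff.1 hc]
        · rw [if_neg hc, if_pos rfl, (hp a).resolve_left (mt hiff.2 hc)]
    · rintro ⟨x, rfl⟩
      refine ⟨fun a => ?_, fun a => ?_⟩
      · rw [L0_v, L0_v, mu0_fst]
      · rw [L0_p]
        split_ifs
        · exact Or.inr rfl
        · exact Or.inl rfl

theorem L0_bc (i : Fin m) : L0 e (bc i) = W.fl (fc (e (i, false)) (e (i, true))) := by
  refine W.ext (funext fun a => ?_) (Equiv.ext fun a => ?_)
  · obtain ⟨⟨j, b⟩, rfl⟩ := e.surjective a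
    rw [L0_v, Equiv.symm_apply_apply]
    rcases eq_or_ne j i with rfl | hne
    · cases b
      · simp [bc, fc, e.injective.eq_iff]
      · simp [bc, fc, e.injective.eq_iff]
    · simp [bc, fc, e.injective.eq_iff, hne]
  · rw [L0_p]; simp [bc]

theorem L0_bt : L0 e (bt : BV (Fin m)) = W.zz := by
  refine W.ext (funext fun a => rfl) (Equiv.ext fun a => ?_)
  rw [L0_p]; simp [bt, W.zz]

theorem L0_flip (x : BV (Fin m)) (h : x.1 = 0) : L0 e x = W.fl (L0 e x).v := by
  refine W.ext rfl (Equiv.ext fun a => ?_)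
  rw [L0_p, h]
  simp

/-- Exchanging blocks. -/
theorem L0_bperm (σ : Equiv.Perm (Fin m)) (x : BV (Fin m)) :
    W.pm ((e.symm.trans (σ.prodCongr (Equiv.refl Bool))).trans e) * L0 e x *
        (W.pm ((e.symm.trans (σ.prodCongr (Equiv.refl Bool))).trans e))⁻¹ = L0 e (bperm σ.symm x) := by
  set τ : Equiv.Perm ι := (e.symm.trans (σ.prodCongr (Equiv.refl Bool))).trans e with hτ
  have hfst : ∀ a, (e.symm (τ.symm a)).1 = σ.symm (e.symm a).1 := fun a => by simp [hτ]
  refine W.ext (funext fun a => ?_) (Equiv.ext fun a => ?_)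
  · rw [conj_v]
    simp [L0_v, bperm_apply, hfst]
  · simp only [W.mul_p, W.inv_p, W.pm_p, Equiv.Perm.mul_apply, Equiv.Perm.inv_def]
    rw [L0_p, L0_p, hfst, bperm_apply]
    simp only [Function.comp_apply]
    split_ifs
    · simp [hτ, mu0]
    · simp

end full

variable {G : Type*} [Group G] (s : Setup ι G) {m : ℕ} (e : Fin m × Bool ≃ ι)

/-- The transvections of the full matching fixing `t`. -/
theorem centred0 : Centred (autGrp fun x => s.emb (L0 e x)) bt bc bf where
  mem i := by
    obtain ⟨c, f, h, hc, hf⟩ := (par0 e).tv_pair s (a := e (i, false)) (mu0_ne e _)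
    rw [mu0_apply, Bool.not_false, ← L0_bc e i] at hc
    obtain rfl := (par0 e).inj hc
    obtain rfl : f = bf i := lin_eq_of_zero_iff fun v => by
      rw [hf, L0_p, bf_apply, Equiv.symm_apply_apply]
      rcases F_cases (v.1 i) with a | a <;> simp [a, mu0_ne]
    exact h
  fix i := rfl
  all d g h hg := by
    rcases (par0 e).tv_cases s h (vt := bt) (L0_bt e) hg with ⟨a, -, hd, hgf⟩ | ⟨a, b, -, ha, -⟩
    · obtain ⟨⟨i, b⟩, rfl⟩ := e.surjective a
      refine ⟨i, (par0 e).inj ?_, lin_eq_of_zero_iff fun v => ?_⟩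
      · rw [hd, L0_bc, mu0_apply]
        cases b
        · rfl
        · exact congrArg W.fl (fc_comm _ _)
      · rw [hgf, L0_p, bf_apply, Equiv.symm_apply_apply]
        rcases F_cases (v.1 i) with a | a <;> simp [a, mu0_ne]
    · exact absurd ha (mu0_ne e a)
  inj := bf_inj
  sum := sum_bc

/-- An element of the group of maps conjugates. -/
theorem conj_of_mem {φ : BV (Fin m) ≃ₗ[F] BV (Fin m)} (hφ : φ ∈ autGrp fun x => s.emb (L0 e x)) (x : BV (Fin m)) :
    ∃ g : G, g * s.emb (L0 e x) * g⁻¹ = s.emb (L0 e (φ x)) := by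
  obtain ⟨g, hg⟩ := hφ
  exact ⟨g, hg x⟩

/-- From a transvection moving `t`, every element of the full matching is fused into the flips. -/
theorem fused_full {d : BV (Fin m)} {g : BV (Fin m) →ₗ[F] F}
    (h : IsTv (autGrp fun x => s.emb (L0 e x)) d g) (hg : g bt = 1) :
    ∀ x : BV (Fin m), ∃ (k : G) (v : ι → F), k * s.emb (L0 e x) * k⁻¹ = s.emb (W.fl v) := by
  obtain ⟨i, hi⟩ := block_of_tv (centred0 s e) h hg
  obtain ⟨-, -, -, φ, hφ, hφv⟩ := h
  intro x
  induction hN : (Finset.univ.filter fun j => x.1 j = 1).card generalizing x with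
  | zero =>
    refine ⟨1, (L0 e x).v, ?_⟩
    rw [one_mul, inv_one, mul_one, ← L0_flip e x (funext fun j => ?_)]
    refine (F_cases _).resolve_right fun hj => ?_
    exact absurd hN (Finset.card_ne_zero.2 ⟨j, by simp [hj]⟩)
  | succ N ih =>
    obtain ⟨j, hj⟩ : ∃ j, x.1 j = 1 := by
      obtain ⟨j, hj⟩ := Finset.card_pos.1 (hN ▸ N.succ_pos : 0 < (Finset.univ.filter fun j => x.1 j = 1).card)
      exact ⟨j, (Finset.mem_filter.1 hj).2⟩
    set σ : Equiv.Perm (Fin m) := Equiv.swap i j
    set x1 := bperm σ.symm x with hx1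
    have hx1i : x1.1 i = 1 := by
      rw [hx1, bperm_apply]; simp [σ, hj]
    obtain ⟨x2, hx2, hg2, k2, hk2⟩ : ∃ x2, x2.1 = x1.1 ∧ g x2 = 1 ∧
        ∃ k : G, k * s.emb (L0 e x1) * k⁻¹ = s.emb (L0 e x2) := by
      rcases F_cases (g x1) with h0 | h0
      · obtain ⟨-, -, -, ψ, hψ, hψv⟩ := (centred0 s e).mem i
        refine ⟨x1 + bc i, ?_, ?_, ?_⟩
        · simp [bc]
        · rw [map_add, h0, ((hi i).1).2 rfl, zero_add]
        · obtain ⟨k, hk⟩ := conj_of_mem s e hψ x1
          exact ⟨k, by rw [hk, hψv, bf_apply, hx1i, one_smul]⟩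
      · exact ⟨x1, rfl, h0, 1, by group⟩
    obtain ⟨k3, hk3⟩ := conj_of_mem s e hφ x2
    rw [hφv, hg2, one_smul] at hk3
    have hlow : (Finset.univ.filter fun l => (x2 + d).1 l = 1).card = N := by
      have e1 : (Finset.univ.filter fun l => (x2 + d).1 l = 1) = (Finset.univ.filter fun l => x1.1 l = 1).erase i := by
        ext l
        simp only [Finset.mem_filter, Finset.mem_univ, true_and, Finset.mem_erase, Prod.fst_add, Pi.add_apply, hx2]
        rcases eq_or_ne l i with rfl | hl
        · rw [hx1i, ((hi l).2).2 rfl]; simp [show (1 + 1 : F) = 0 from rfl]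
        · rw [(F_cases (d.1 l)).resolve_right fun e => hl (((hi l).2).1 e), add_zero]
          simp [hl]
      have e2 : (Finset.univ.filter fun l => x1.1 l = 1).card = N + 1 := by
        rw [← hN]
        refine Finset.card_equiv σ.symm fun l => ?_
        simp [hx1, bperm_apply]
      rw [e1, Finset.card_erase_of_mem (by simp [hx1i]), e2, Nat.add_sub_cancel]
    obtain ⟨k4, v, hk4⟩ := ih (x2 + d) hlow
    set T := s.emb (W.pm ((e.symm.trans (σ.prodCongr (Equiv.refl Bool))).trans e))
    have hk1 : T * s.emb (L0 e x) * T⁻¹ = s.emb (L0 e x1) := by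
      rw [← map_inv, ← map_mul, ← map_mul, L0_bperm]
    refine ⟨k4 * k3 * k2 * T, v, ?_⟩
    rw [← hk4, ← hk3, ← hk2, ← hk1]
    group

/-- A conjugate of an involution lies in the full matching. -/
theorem to_full [Finite G] (hB : TypeB s) (e : Fin m × Bool ≃ ι) {w : W ι} (hw : w * w = 1) :
    ∃ (g : G) (x : BV (Fin m)), g * s.emb w * g⁻¹ = s.emb (L0 e x) ∧ (x.1 = 0 → w.p = 1) := by
  classical
  have hm : Fintype.card ι = 2 * m := by
    rw [← Fintype.card_congr e, Fintype.card_prod, Fintype.card_fin, Fintype.card_bool, mul_comm]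
  -- an involution of even flip weight
  have even_case : ∀ w : W ι, w * w = 1 → (∑ i, w.v i) = 0 →
      ∃ (g : G) (x : BV (Fin m)), g * s.emb w * g⁻¹ = s.emb (L0 e x) ∧ (x.1 = 0 → w.p = 1) := by
    intro w hw hpar
    have hp : Function.Involutive w.p := fun i => congrArg (fun q : W ι => q.p i) hw
    have hsymm : ∀ i, w.p.symm i = w.p i := fun i => (Equiv.symm_apply_eq _).2 (hp i).symm
    have hvp : ∀ i, w.v (w.p i) = w.v i := fun i => by
      have h0 := congrFun (congrArg W.v hw) i
      rw [W.mul_v, Pi.add_apply, Function.comp_apply, hsymm] at h0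
      exact (CharTwo.add_eq_zero.1 h0).symm
    let κ : ι → Sym2 ι ⊕ F := fun i => if w.p i = i then Sum.inr (w.v i) else Sum.inl s(i, w.p i)
    have heven : ∀ k, Even (Finset.univ.filter fun i => κ i = k).card := by
      intro k
      rcases k with q | c
      · induction q using Sym2.ind with
        | h a b =>
          by_cases hab : w.p a = b ∧ a ≠ b
          · obtain ⟨hab, hne⟩ := hab
            have : (Finset.univ.filter fun i => κ i = Sum.inl s(a, b)) = {a, b} := by
              ext i
              have hb : w.p b = a := by rw [← hab, hp]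
              simp only [κ, Finset.mem_filter, Finset.mem_univ, true_and, Finset.mem_insert, Finset.mem_singleton]
              constructor
              · intro h
                split_ifs at h
                rcases Sym2.eq_iff.1 (Sum.inl_injective h) with ⟨h1, -⟩ | ⟨h1, -⟩
                · exact Or.inl h1
                · exact Or.inr h1
              · rintro (rfl | rfl)
                · rw [if_neg (by rw [hab]; exact hne.symm), hab]
                · rw [if_neg (by rw [hb]; exact hne), hb, Sym2.eq_swap]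
            rw [this, Finset.card_pair hne]
            exact even_two
          · rw [show (Finset.univ.filter fun i => κ i = Sum.inl s(a, b)) = ∅ from ?_]
            · simp
            refine Finset.filter_eq_empty_iff.2 fun i _ h => hab ?_
            simp only [κ] at h
            split_ifs at h with hi
            rcases Sym2.eq_iff.1 (Sum.inl_injective h) with ⟨rfl, h2⟩ | ⟨rfl, h2⟩
            · exact ⟨h2, fun e => hi (h2.trans e.symm)⟩
            · exact ⟨by rw [← h2, hp], fun e => hi (h2.trans e)⟩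
      · have hfix : (Finset.univ.filter fun i => κ i = Sum.inr c) =
            (Finset.univ.filter fun i => w.p i = i).filter fun i => w.v i = c := by
          ext i
          simp only [κ, Finset.mem_filter, Finset.mem_univ, true_and]
          split_ifs with h <;> simp [h]
        rw [hfix, ← ZMod.natCast_eq_zero_iff_even]
        have h1 : (((Finset.univ.filter fun i => w.p i = i).filter fun i => w.v i = 1).card : F) = 0 := by
          rw [← hpar, sum_invol hp hvp, Finset.card_eq_sum_ones, Nat.cast_sum, Finset.sum_filter]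
          refine Finset.sum_congr rfl fun i _ => ?_
          rcases F_cases (w.v i) with h | h <;> simp [h]
        rcases F_cases c with rfl | rfl
        · have h2 := sum_invol hp (v := fun _ => (1 : F)) fun _ => rfl
          rw [Finset.sum_const, Finset.sum_const, Finset.card_univ, hm, nsmul_one, nsmul_one, Nat.cast_mul,
            Nat.cast_ofNat, show (2 : F) = 0 from rfl, zero_mul] at h2
          have h3 := Finset.card_filter_add_card_filter_not (s := Finset.univ.filter fun i => w.p i = i)
            (fun i => w.v i = 1)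
          rw [show ((Finset.univ.filter fun i => w.p i = i).filter fun i => ¬ w.v i = 1) =
            (Finset.univ.filter fun i => w.p i = i).filter fun i => w.v i = 0 from
            Finset.filter_congr fun i _ => ⟨fun h => (F_cases _).resolve_right h, fun h => h ▸ zero_ne_one⟩] at h3
          have h4 := congrArg (Nat.cast : ℕ → F) h3
          rw [Nat.cast_add, h1, zero_add, ← h2] at h4
          exact h4
        · exact h1
    obtain ⟨f, hf⟩ := exists_pairing κ heven hm
    have hsame : ∀ i b, (w.p (f (i, b)) = f (i, b) ∨ w.p (f (i, b)) = f (i, !b)) ∧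
        w.v (f (i, b)) = w.v (f (i, !b)) := by
      intro i b
      have hk : κ (f (i, b)) = κ (f (i, !b)) := by cases b <;> simp [hf i]
      simp only [κ] at hk
      split_ifs at hk with h1 h2
      · exact ⟨Or.inl h1, Sum.inr_injective hk⟩
      · have hne : f (i, b) ≠ f (i, !b) := fun h => by simp at h
        rcases Sym2.eq_iff.1 (Sum.inl_injective hk) with ⟨h, -⟩ | ⟨-, h⟩
        · exact absurd h hne
        · exact ⟨Or.inr h, by rw [← h, hvp]⟩
    set σ : Equiv.Perm ι := f.symm.trans e with hσ
    have hmem : W.pm σ * w * (W.pm σ)⁻¹ ∈ W.std (mu0 e) (mu0_invol e) := by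
      refine ⟨fun a => ?_, fun a => ?_⟩
      · rw [conj_v, conj_v]
        obtain ⟨⟨i, b⟩, rfl⟩ := e.surjective a
        rw [mu0_apply]
        simp only [W.pm_v, W.pm_p, Pi.zero_apply, zero_add, add_zero, hσ, Equiv.symm_trans_apply,
          Equiv.symm_symm, Equiv.symm_apply_apply]
        exact (hsame i b).2.symm
      · obtain ⟨⟨i, b⟩, rfl⟩ := e.surjective a
        rw [mu0_apply]
        simp only [W.mul_p, W.inv_p, W.pm_p, Equiv.Perm.mul_apply, Equiv.Perm.inv_def, hσ, Equiv.symm_trans_apply,
          Equiv.symm_symm, Equiv.symm_apply_apply, Equiv.trans_apply]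
        rcases (hsame i b).1 with h | h <;> rw [h] <;> simp
    obtain ⟨x, hx⟩ := ((par0 e).range _).1 hmem
    refine ⟨s.emb (W.pm σ), x, by rw [hx, map_mul, map_mul, map_inv], fun h0 => ?_⟩
    have h1 : (W.pm σ * w * (W.pm σ)⁻¹).p = 1 := by rw [← hx, L0_flip e x h0]; rfl
    rw [W.mul_p, W.mul_p, W.inv_p, mul_inv_eq_one, mul_eq_left] at h1
    exact h1
  rcases F_cases (∑ i, w.v i) with hpar | hpar
  · exact even_case w hw hpar
  have hp : Function.Involutive w.p := fun i => congrArg (fun q : W ι => q.p i) hw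
  have hvp : ∀ i, w.v (w.p i) = w.v i := fun i => by
    have h0 := congrFun (congrArg W.v hw) i
    rw [W.mul_v, Pi.add_apply, Function.comp_apply,
      (Equiv.symm_apply_eq _).2 (hp i).symm] at h0
    exact (CharTwo.add_eq_zero.1 h0).symm
  obtain ⟨a, ha, hva⟩ : ∃ a, w.p a = a ∧ w.v a = 1 := by
    by_contra hne
    push Not at hne
    rw [sum_invol hp hvp, Finset.sum_eq_zero fun i hi =>
      (F_cases _).resolve_right (hne i (Finset.mem_filter.1 hi).2)] at hpar
    exact zero_ne_one hpar
  obtain ⟨b, hb, hvb⟩ : ∃ b, w.p b = b ∧ w.v b = 0 := by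
    by_contra hne
    push Not at hne
    have h2 := sum_invol hp (v := fun _ => (1 : F)) fun _ => rfl
    rw [sum_invol hp hvp, Finset.sum_congr rfl fun i hi =>
      (F_cases _).resolve_left (hne i (Finset.mem_filter.1 hi).2), ← h2, Finset.sum_const, Finset.card_univ, hm,
      nsmul_one, Nat.cast_mul, Nat.cast_ofNat, show (2 : F) = 0 from rfl, zero_mul] at hpar
    exact zero_ne_one hpar
  obtain ⟨-, -, -, φ, ⟨k, hk⟩, hφ⟩ := hB a
  replace hk : ∀ x, k * s.emb (W.fl x) * k⁻¹ = s.emb (W.fl (φ x)) := hk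
  set P := s.emb (W.pm w.p) with hP
  have hcomm : ∀ x, P * s.emb (W.fl x) * P⁻¹ = s.emb (W.fl (x ∘ w.p)) := fun x => by
    rw [hP, ← map_inv, ← map_mul, ← map_mul, W.conj_fl]
    congr 2
    funext i
    simp only [W.pm_p, Function.comp_apply, (Equiv.symm_apply_eq _).2 (hp i).symm]
  have hphi : ∀ x, φ (x ∘ w.p) = φ x ∘ w.p := fun x => by
    funext i
    have hsum : ∑ j, x (w.p j) = ∑ j, x j := Equiv.sum_comp w.p x
    have hsingle : (Pi.single a 1 : ι → F) (w.p i) = (Pi.single a 1 : ι → F) i := by
      rcases eq_or_ne i a with rfl | h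
      · rw [ha]
      · rw [Pi.single_eq_of_ne h, Pi.single_eq_of_ne fun e => h (w.p.injective (e.trans ha.symm))]
    simp [hφ, gB_apply, hsum, ha, hsingle]
  obtain ⟨δ, hδ⟩ : ∃ δ, k * P * k⁻¹ = s.emb (W.fl δ) * P := by
    haveI : Nonempty ι := ⟨a⟩
    have hD : k * P * k⁻¹ * P⁻¹ ∈ s.D := s.mem_D_of_comm fun y hy => by
      obtain ⟨v, rfl⟩ := s.mem_D.1 hy
      rw [← mul_inv_eq_iff_eq_mul]
      obtain ⟨u, hu⟩ : ∃ u, φ u = v ∘ w.p := ⟨φ.symm (v ∘ w.p), φ.apply_symm_apply _⟩
      have hv : (φ u) ∘ w.p = v := by rw [hu]; funext i; simp [hp i]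
      have hk' : k⁻¹ * s.emb (W.fl (v ∘ w.p)) * k = s.emb (W.fl u) := by rw [← hu, ← hk]; group
      have hPinv : P⁻¹ * s.emb (W.fl v) * P = s.emb (W.fl (v ∘ w.p)) := by
        have : (v ∘ w.p) ∘ w.p = v := funext fun i => by simp [hp i]
        conv_lhs => rw [← this, ← hcomm]
        group
      calc k * P * k⁻¹ * P⁻¹ * s.emb (W.fl v) * (k * P * k⁻¹ * P⁻¹)⁻¹
          = k * (P * (k⁻¹ * (P⁻¹ * s.emb (W.fl v) * P) * k) * P⁻¹) * k⁻¹ := by group
        _ = s.emb (W.fl v) := by rw [hPinv, hk', hcomm, hk, hphi, hv]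
    obtain ⟨δ, hδ⟩ := s.mem_D.1 hD
    exact ⟨δ, by rw [← hδ]; group⟩
  have hmove : ∀ v : ι → F, k * s.emb ⟨v, w.p⟩ * k⁻¹ =
      s.emb ⟨v + gb a v • Pi.single a 1 + δ, w.p⟩ := fun v => by
    have e1 : ∀ u, s.emb ⟨u, w.p⟩ = s.emb (W.fl u) * P := fun u => by
      rw [hP, ← map_mul]; exact congrArg s.emb (W.eq_fl_pm ⟨u, w.p⟩)
    rw [e1, e1, W.fl_add, map_mul, mul_assoc (s.emb _) (s.emb _) P, ← hδ, ← hφ, ← hk]
    group
  -- the flip vector at which the move gives even weight
  obtain ⟨T, v, hT, hv⟩ : ∃ (T : G) (v : ι → F), T * s.emb w * T⁻¹ = s.emb ⟨v, w.p⟩ ∧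
      (∑ i, v i) = 1 ∧ v a + ∑ i, δ i = 0 := by
    rcases F_cases (∑ i, δ i) with hδ0 | hδ1
    · refine ⟨s.emb (W.pm (Equiv.swap a b)), fun i => w.v (Equiv.swap a b i), ?_, ?_, ?_⟩
      · rw [← map_inv, ← map_mul, ← map_mul]
        refine congrArg s.emb (W.ext (funext fun i => ?_) ?_)
        · rw [conj_v]; simp [Equiv.symm_swap]
        · simp only [W.mul_p, W.inv_p, W.pm_p]
          rw [mul_inv_eq_iff_eq_mul, Equiv.mul_swap_eq_swap_mul, ha, hb]
      · rw [← hpar]; exact Equiv.sum_comp (Equiv.swap a b) w.v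
      · simp only [Equiv.swap_apply_left, hvb, hδ0, add_zero]
    · exact ⟨1, w.v, by simp, hpar, by rw [hva, hδ1]; rfl⟩
  set w' : W ι := ⟨v + gb a v • Pi.single a 1 + δ, w.p⟩ with hw'
  have hc : k * T * s.emb w * (k * T)⁻¹ = s.emb w' := by
    rw [← hmove v, ← hT]; group
  have hw2 : w' * w' = 1 := s.inj (by
    rw [map_mul, map_one, ← hc]
    calc k * T * s.emb w * (k * T)⁻¹ * (k * T * s.emb w * (k * T)⁻¹)
        = k * T * (s.emb w * s.emb w) * (k * T)⁻¹ := by group
      _ = 1 := by rw [← map_mul, hw, map_one, mul_one, mul_inv_cancel])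
  have hpar' : ∑ i, w'.v i = 0 := by
    simp only [hw', Pi.add_apply, Pi.smul_apply, smul_eq_mul, Finset.sum_add_distrib, gB_apply]
    rw [← Finset.mul_sum, Fintype.sum_pi_single', mul_one, hv.1, ← add_assoc, vec_add_self, zero_add]
    exact hv.2
  obtain ⟨g, x, hg, hx⟩ := even_case w' hw2 hpar'
  refine ⟨g * (k * T), x, ?_, hx⟩
  rw [← hg, ← hc]
  group

/-- Every involution is conjugate to a flip, once some involution off the flips is conjugate to `t`. -/
theorem all_fused [Finite G] (hB : TypeB s)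
    (hu : ∃ (u : W ι) (g : G), u * u = 1 ∧ u.p ≠ 1 ∧ g * s.emb u * g⁻¹ = s.t) (w : W ι) (hw : w * w = 1) :
    ∃ (g : G) (v : ι → F), g * s.emb w * g⁻¹ = s.emb (W.fl v) := by
  classical
  obtain ⟨e⟩ : Nonempty (Fin s.n × Bool ≃ ι) := ⟨Fintype.equivOfCardEq (by
    rw [Fintype.card_prod, Fintype.card_fin, Fintype.card_bool, s.card_eq, mul_comm])⟩
  obtain ⟨u, g0, hu2, hup, hgu⟩ := hu
  obtain ⟨g1, x, hgx, hx0⟩ := to_full s hB e hu2
  set E := fun v => s.emb (L0 e v) with hE
  set h := g0 * g1⁻¹ with hh
  have hEx : h * s.emb (L0 e x) * h⁻¹ = s.t := by rw [hh, ← hgx, ← hgu]; group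
  have hcent : ∀ v, h * s.emb (L0 e v) * h⁻¹ ∈ Subgroup.centralizer ({s.t} : Set G) := fun v => by
    rw [Subgroup.mem_centralizer_singleton_iff, ← hEx]
    calc h * s.emb (L0 e v) * h⁻¹ * (h * s.emb (L0 e x) * h⁻¹)
        = h * (s.emb (L0 e v * L0 e x)) * h⁻¹ := by rw [map_mul]; group
      _ = h * (s.emb (L0 e x * L0 e v)) * h⁻¹ := by rw [W.std_comm ((par0 e).mem v) ((par0 e).mem x)]
      _ = _ := by rw [map_mul]; group
  obtain ⟨z, hz, μ', hμ', L', P', heq, -⟩ := (par0 e).conj s h hcent
  have hLx : L' x = W.zz := s.inj (by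
    rw [heq, show z * h * s.emb (L0 e x) * (z * h)⁻¹ = z * (h * s.emb (L0 e x) * h⁻¹) * z⁻¹ by group, hEx, hz,
      mul_inv_cancel_right])
  have hsum := P'.sum_centres s hLx
  rw [autGrp_conj (E := E) (g := z * h) heq] at hsum
  have hmem : ∀ c : ↥(cset (autGrp E) x), IsTv (autGrp E) c.1 (mem_cset.1 c.2).choose := fun c =>
    (mem_cset.1 c.2).choose_spec.1
  obtain ⟨i, hi⟩ : ∃ i, x.1 i ≠ 0 := by
    by_contra hne
    push Not at hne
    exact hup (hx0 (funext hne))
  have hmoves := (centred0 s e).moves (fun i j => bf_bc i j) hmem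
    ((Finset.sum_coe_sort _ fun y => y).trans hsum) ⟨i, hi⟩
  obtain ⟨d, g, hd, hg⟩ := (centred0 s e).exists_moving hmoves
  obtain ⟨k1, x1, hk1, -⟩ := to_full s hB e hw
  obtain ⟨k2, v, hk2⟩ := fused_full s e hd hg x1
  refine ⟨k2 * k1, v, ?_⟩
  rw [← hk2, ← hk1]
  group

end Cfsg.Agent.AltClasses
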