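import Cfsg.Agent.Lib.AltClasses.Centres
import Cfsg.Agent.Lib.SylClasses.ExtremalTransfer

/-!
Without a subgroup of index two, some flip other than `t` is conjugate to `t`, and the normaliser of the
flips moves `t`.
-/

set_option autoImplicit false
set_option linter.unusedSectionVars false
set_option linter.style.haveILetI false

namespace Cfsg.Agent.AltClasses

open SylClasses

local notation "F" => ZMod 2

variable {ι : Type*} [Fintype ι] [DecidableEq ι] {G : Type*} [Group G] (s : Setup ι G)

/-- The maps induced on the flips. -/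
def gD : Subgroup ((ι → F) ≃ₗ[F] (ι → F)) := autGrp fun v => s.emb (W.fl v)

theorem emb_comm_flips (u v : ι → F) :
    s.emb (W.fl u) * s.emb (W.fl v) = s.emb (W.fl v) * s.emb (W.fl u) := by
  rw [← map_mul, ← map_mul, ← W.fl_add, ← W.fl_add, add_comm]

variable [Finite G]

/-- A 2-subgroup of the centraliser lies in a Sylow subgroup of `G` inside the centraliser. -/
theorem exists_sylow {P : Subgroup G} (hP : IsPGroup 2 P)
    (hle : P ≤ Subgroup.centralizer ({s.t} : Set G)) :
    ∃ S : Sylow 2 G, P ≤ S ∧ (S : Subgroup G) ≤ Subgroup.centralizer ({s.t} : Set G) := by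
  haveI : Fact (Nat.Prime 2) := ⟨Nat.prime_two⟩
  set H := Subgroup.centralizer ({s.t} : Set G)
  obtain ⟨Q, hQ⟩ := (show IsPGroup 2 (P.subgroupOf H) from hP.comap_subtype).exists_le_sylow
  have hi : ¬ 2 ∣ ((Q : Subgroup H).map H.subtype).index := by
    rw [Subgroup.index_map_of_injective _ H.subtype_injective, Subgroup.range_subtype]
    exact Nat.prime_two.not_dvd_mul Q.not_dvd_index s.index_odd
  exact ⟨(Q.isPGroup'.map H.subtype).toSylow hi,
    fun x hx => ⟨⟨x, hle hx⟩, hQ (show (⟨x, hle hx⟩ : H) ∈ P.subgroupOf H from hx), rfl⟩,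
    Subgroup.map_subtype_le _⟩

/-- The transfer, read through a character of the signed permutations. -/
theorem exists_move (χ : W ι →* Multiplicative F) {P : Subgroup G} (hP : IsPGroup 2 P)
    (hle : P ≤ Subgroup.centralizer ({s.t} : Set G)) {e : G} (heP : e ∈ P) (he : e * e = 1)
    (hχ : χ (s.proj ⟨e, hle heP⟩) ≠ 1) :
    ∃ g : G, (∃ h : g * e * g⁻¹ ∈ Subgroup.centralizer ({s.t} : Set G),
        χ (s.proj ⟨g * e * g⁻¹, h⟩) = 1) ∧
      ∀ x ∈ P, x * e = e * x → g * x * g⁻¹ ∈ Subgroup.centralizer ({s.t} : Set G) := by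
  obtain ⟨S, hPS, hS⟩ := exists_sylow s hP hle
  set ψ := (χ.comp s.proj).comp (Subgroup.inclusion hS) with hψ
  set T := ψ.ker.map (S : Subgroup G).subtype with hT
  have hrel : T.relIndex (S : Subgroup G) = 2 := by
    show (T.comap (S : Subgroup G).subtype).index = 2
    rw [hT, Subgroup.comap_map_eq_self_of_injective (S : Subgroup G).subtype_injective,
      Subgroup.index_ker]
    have h1 : Nat.card ψ.range ∣ 2 := by
      have := Subgroup.card_subgroup_dvd_card ψ.range
      rwa [show Nat.card (Multiplicative F) = 2 from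
        (Nat.card_congr Multiplicative.toAdd).trans (Nat.card_zmod 2)] at this
    rcases (Nat.dvd_prime Nat.prime_two).1 h1 with h | h
    · have := Subgroup.card_eq_one.1 h
      rw [MonoidHom.range_eq_bot_iff] at this
      exact absurd (DFunLike.congr_fun this ⟨e, hPS heP⟩) hχ
    · exact h
  obtain ⟨g, hgT, hg⟩ := exists_conj_mem s.no_two S T (Subgroup.map_subtype_le _) hrel
    (y := e) (by rw [pow_two, he]) (hPS heP) (by
      rintro ⟨⟨y, hy⟩, hk, rfl⟩
      exact hχ hk)
  refine ⟨g, ?_, fun x hx hxe => hS (hg ⟨x, ⟨hPS hx, Subgroup.mem_centralizer_singleton_iff.2 hxe⟩, rfl⟩).1⟩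
  obtain ⟨⟨y, hy⟩, hk, rfl⟩ := hgT
  exact ⟨hS hy, hk⟩

theorem isPGroup_bm (μ : ι → ι) (hμ : Function.Involutive μ) : IsPGroup 2 (s.bm μ hμ) := fun x =>
  ⟨1, Subtype.ext (by simpa [pow_two] using s.bm_sq x.2)⟩

/-- A conjugate of a standard subgroup inside the centraliser contains `t`. -/
theorem exists_back {V : Type*} [AddCommGroup V] [Module F V] {μ : ι → ι} {hμ : Function.Involutive μ}
    {L : V → W ι} (P : Par μ hμ L) (g : G)
    (hg : ∀ v, g * s.emb (L v) * g⁻¹ ∈ Subgroup.centralizer ({s.t} : Set G)) :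
    ∃ u, g * s.emb (L u) * g⁻¹ = s.t := by
  obtain ⟨z, hz, μ', hμ', L', P', heq, -⟩ := P.conj s g hg
  obtain ⟨u, hu⟩ := P'.exists_t
  refine ⟨u, ?_⟩
  have h := heq u
  rw [hu] at h
  change s.t = z * g * s.emb (L u) * (z * g)⁻¹ at h
  calc g * s.emb (L u) * g⁻¹ = z⁻¹ * (z * g * s.emb (L u) * (z * g)⁻¹) * z := by group
    _ = z⁻¹ * (s.t * z) := by rw [← h, mul_assoc]
    _ = s.t := by rw [← hz, inv_mul_cancel_left]

include s in
omit [Finite G] in
theorem card_pos' : Nonempty ι := by
  rw [← Fintype.card_pos_iff, s.card_eq]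
  have := s.two_le
  omega

/-- Some flip other than `t` is conjugate to `t`. -/
theorem exists_fused_flip : ∃ (u : ι → F) (g : G), g * s.emb (W.fl u) * g⁻¹ = s.t ∧ u ≠ ft := by
  obtain ⟨a⟩ := card_pos' s
  have he : s.emb (W.fl (Pi.single a 1)) ∈ s.D := s.fl_mem_D _
  obtain ⟨g, ⟨hge, hpar⟩, hg⟩ := exists_move s W.parHom (isPGroup_bm s _ _) (s.bm_le _ _) he
    (by rw [← map_mul, W.fl_sq, map_one]) (by
      rw [s.proj_eq]
      intro h
      have h0 := congrArg Multiplicative.toAdd h
      change W.par (W.fl (Pi.single a 1)) = (0 : F) at h0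
      rw [W.par, W.fl_v, Fintype.sum_pi_single'] at h0
      exact one_ne_zero h0)
  obtain ⟨u, hu⟩ := exists_back s parD g fun v => hg _ (s.fl_mem_D v) (emb_comm_flips s _ _)
  refine ⟨u, g, hu, fun h => ?_⟩
  subst h
  have hgt : g ∈ Subgroup.centralizer ({s.t} : Set G) :=
    Subgroup.mem_centralizer_singleton_iff.2 (mul_inv_eq_iff_eq_mul.1 hu)
  have e : (⟨g * s.emb (W.fl (Pi.single a 1)) * g⁻¹, hge⟩ : ↥(Subgroup.centralizer ({s.t} : Set G))) =
      ⟨g, hgt⟩ * ⟨s.emb (W.fl (Pi.single a 1)), s.emb_mem _⟩ * (⟨g, hgt⟩)⁻¹ := Subtype.ext rfl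
  rw [e, map_mul s.proj, map_mul s.proj, map_inv s.proj, s.proj_emb, map_mul, map_mul, map_inv, mul_right_comm, mul_inv_cancel,
    one_mul] at hpar
  have h0 := congrArg Multiplicative.toAdd hpar
  change W.par (W.fl (Pi.single a 1)) = (0 : F) at h0
  rw [W.par, W.fl_v, Fintype.sum_pi_single'] at h0
  exact one_ne_zero h0

/-- The transpositions are the transvections of the flips fixing `t`. -/
theorem flipSys : FlipSys (gD s) where
  mem a b hab := by
    obtain ⟨c, f, h, hc, hf⟩ := (parD (ι := ι)).tv_single s hab rfl rfl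
    obtain rfl := W.fl_inj.1 hc
    obtain rfl : f = ff a b := lin_eq_of_zero_iff fun v => by
      rw [hf, ff_apply]; exact CharTwo.add_eq_zero.symm
    exact h
  all d g h hg := by
    rcases (parD (ι := ι)).tv_cases s h (vt := ft) rfl hg with ⟨a, ha, -⟩ | ⟨a, b, hab, -, -, hc, hf⟩
    · exact absurd rfl ha
    · refine ⟨a, b, hab, W.fl_inj.1 hc, lin_eq_of_zero_iff fun v => ?_⟩
      rw [hf, ff_apply]; exact CharTwo.add_eq_zero.symm
  even := ⟨s.n, by rw [s.card_eq, two_mul]⟩
  four := by have := s.two_le; rw [s.card_eq]; omega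

/-- The normaliser of the flips moves `t`. -/
theorem flips_move : ∃ φ ∈ gD s, φ ft ≠ ft := by
  classical
  by_contra hne
  push Not at hne
  obtain ⟨u, g, hgu, huft⟩ := exists_fused_flip s
  have hg : ∀ v, g * s.emb (W.fl v) * g⁻¹ ∈ Subgroup.centralizer ({s.t} : Set G) := fun v => by
    rw [Subgroup.mem_centralizer_singleton_iff, ← hgu]
    calc g * s.emb (W.fl v) * g⁻¹ * (g * s.emb (W.fl u) * g⁻¹)
        = g * (s.emb (W.fl v) * s.emb (W.fl u)) * g⁻¹ := by group
      _ = g * (s.emb (W.fl u) * s.emb (W.fl v)) * g⁻¹ := by rw [emb_comm_flips]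
      _ = _ := by group
  obtain ⟨z, hz, μ', hμ', L', P', heq, -⟩ := (parD (ι := ι)).conj s g hg
  have hu : L' u = W.zz := s.inj (by
    rw [heq, show z * g * s.emb (W.fl u) * (z * g)⁻¹ = z * (g * s.emb (W.fl u) * g⁻¹) * z⁻¹ by group, hgu, hz,
      mul_inv_cancel_right])
  have hsum := P'.sum_centres s hu
  rw [autGrp_conj (E := fun v => s.emb (W.fl v)) (g := z * g) heq] at hsum
  set R : ι → ι → Prop := fun a b => a ≠ b ∧ u a = u b
  have hS : ∀ y, y ∈ cset (gD s) u ↔ ∃ a b, R a b ∧ y = fc a b := fun y => by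
    rw [mem_cset]
    constructor
    · rintro ⟨f, h, hf⟩
      have hft : f ft = 0 := by
        obtain ⟨hy, -, -, φ, hφ, hφv⟩ := h
        refine (F_cases _).resolve_right fun e => hy ?_
        have := hne φ hφ
        rwa [hφv, e, one_smul, add_eq_left] at this
      obtain ⟨a, b, hab, rfl, rfl⟩ := (flipSys s).all _ _ h hft
      rw [ff_apply] at hf
      exact ⟨a, b, ⟨hab, CharTwo.add_eq_zero.1 hf⟩, rfl⟩
    · rintro ⟨a, b, ⟨hab, e⟩, rfl⟩
      exact ⟨_, (flipSys s).mem a b hab, by rw [ff_apply]; exact CharTwo.add_eq_zero.2 e⟩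
  have hval : ∀ x, u x = (((Finset.univ.filter fun b => u b = u x).card - 1 : ℕ) : F) := fun x => by
    have hx : x ∈ Finset.univ.filter fun b => u b = u x := by simp
    rw [← Finset.card_erase_of_mem hx]
    have := congrFun hsum.symm x
    rw [this]
    show (∑ c ∈ cset (gD s) u, c) x = _
    rw [sum_fc (fun _ _ h => h.1) (fun _ _ h => ⟨h.1.symm, h.2.symm⟩) hS]
    congr 2
    ext b
    simp only [R, Finset.mem_filter, Finset.mem_univ, true_and, Finset.mem_erase, ← this]
    exact ⟨fun ⟨h1, h2⟩ => ⟨h1.symm, h2.symm⟩, fun ⟨h1, h2⟩ => ⟨h1.symm, h2.symm⟩⟩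
  obtain ⟨x₁, hx₁⟩ : ∃ x, u x = 1 := by
    by_contra h
    push Not at h
    rw [show u = 0 from funext fun x => (F_cases _).resolve_right (h x), W.fl_zero, map_one, mul_one,
      mul_inv_cancel] at hgu
    obtain ⟨a⟩ := card_pos' s
    have h1 := congrFun (congrArg W.v (s.inj (hgu.symm.trans (map_one s.emb).symm))) a
    exact one_ne_zero h1
  obtain ⟨x₀, hx₀⟩ : ∃ x, u x = 0 := by
    by_contra h
    push Not at h
    exact huft (funext fun x => (F_cases _).resolve_left (h x))
  have h1 := hval x₁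
  have h0 := hval x₀
  rw [hx₁] at h1
  rw [hx₀] at h0
  have htot := Finset.card_filter_add_card_filter_not (s := (Finset.univ : Finset ι)) (fun b => u b = 1)
  rw [show (Finset.univ.filter fun b => ¬u b = 1) = Finset.univ.filter fun b => u b = 0 from
    Finset.filter_congr fun b _ => ⟨fun h => (F_cases _).resolve_right h, fun h => h ▸ zero_ne_one⟩,
    Finset.card_univ, s.card_eq] at htot
  have o1 := Nat.odd_iff.1 ((ZMod.natCast_eq_one_iff_odd).1 h1.symm)
  have o0 := Nat.even_iff.1 ((ZMod.natCast_eq_zero_iff_even).1 h0.symm)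
  have p0 : 0 < (Finset.univ.filter fun b => u b = 0).card := Finset.card_pos.2 ⟨x₀, by simp [hx₀]⟩
  omega

/-- The normaliser of the flips has a transvection moving `t`. -/
theorem exists_moving_tv : ∃ d g, IsTv (gD s) d g ∧ g ft = 1 := by
  classical
  let c : ↥(cset (gD s) ft) → ι → F := fun i => i.1
  let f : ↥(cset (gD s) ft) → (ι → F) →ₗ[F] F := fun i => (mem_cset.1 i.2).choose
  have hspec : ∀ i, IsTv (gD s) (c i) (f i) ∧ f i ft = 0 := fun i => (mem_cset.1 i.2).choose_spec
  have hdet : ∀ d g d' g', IsTv (gD s) d g → g ft = 0 → IsTv (gD s) d' g' → g' ft = 0 →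
      (d = d' ↔ g = g') := by
    intro d g d' g' h hg h' hg'
    obtain ⟨a, b, -, rfl, rfl⟩ := (flipSys s).all d g h hg
    obtain ⟨a', b', -, rfl, rfl⟩ := (flipSys s).all d' g' h' hg'
    constructor
    · intro e
      refine LinearMap.ext fun v => ?_
      rw [flips_expand v (ff a b), flips_expand v (ff a' b')]
      exact Finset.sum_congr rfl fun x _ => by rw [ff_single, ff_single, e]
    · intro e
      funext x
      rw [← ff_single, ← ff_single, e]
  have hsum := (parD (ι := ι)).sum_centres s (vt := ft) rfl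
  have S : Centred (gD s) ft c f :=
    { mem := fun i => (hspec i).1
      fix := fun i => (hspec i).2
      all := fun d g h hg => ⟨⟨d, mem_cset.2 ⟨g, h, hg⟩⟩, rfl,
        (hdet _ _ _ _ h hg (hspec _).1 (hspec _).2).1 rfl⟩
      inj := fun i j e => Subtype.ext ((hdet _ _ _ _ (hspec i).1 (hspec i).2 (hspec j).1 (hspec j).2).2 e)
      sum := (Finset.sum_coe_sort _ fun y => y).trans hsum }
  exact S.exists_moving (flips_move s)

/-- The parity of a flip vector. -/
def wtL : (ι → F) →ₗ[F] F := ∑ x : ι, (LinearMap.proj x : (ι → F) →ₗ[F] F)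

/-- The functional of the transvection exchanging a point with the extra point. -/
def gb (a : ι) : (ι → F) →ₗ[F] F := wtL + (LinearMap.proj a : (ι → F) →ₗ[F] F)

theorem wtL_apply (v : ι → F) : wtL v = ∑ x, v x := by simp [wtL]

theorem gB_apply (a : ι) (v : ι → F) : gb a v = (∑ x, v x) + v a := by simp [gb, wtL]

/-- At every point the transvection exchanging it with the extra point. -/
def TypeB : Prop :=
  ∀ a, IsTv (gD s) (Pi.single a 1) (gb a)

theorem typeB_of_one {a : ι}
    (h : IsTv (gD s) (Pi.single a 1) (gb a)) :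
    TypeB s := by
  intro b
  rcases eq_or_ne a b with rfl | hab
  · exact h
  have h2 := ((flipSys s).mem a b hab).conj h
  convert h2 using 1
  · rw [ff_single, fc_left hab, one_smul, fc, ← add_assoc, vec_add_self, zero_add]
  · refine LinearMap.ext fun v => ?_
    have hg : (gb a) (fc a b) = 1 := by
      rw [gB_apply, fc_left hab]
      simp only [fc, Pi.add_apply, Finset.sum_add_distrib, Finset.sum_pi_single', Finset.mem_univ, if_true]
      rfl
    rw [LinearMap.add_apply, LinearMap.smul_apply, hg, one_smul, gB_apply, gB_apply, ff_apply,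
      show (∑ x, v x) + v a + (v a + v b) = (∑ x, v x) + v b + (v a + v a) by ring, vec_add_self, add_zero]

theorem twist_emb (v : ι → F) :
    s.flipTwist.emb (W.fl v) = s.emb (W.fl (v + fun _ => ∑ x, v x)) := rfl

/-- After a twist of the flips there is a transvection of type B at every point. -/
theorem exists_typeB : TypeB s ∨ TypeB s.flipTwist := by
  obtain ⟨d, g, h, hg⟩ := exists_moving_tv s
  obtain ⟨a, hA | hB⟩ := flip_shape (flipSys s) h hg
  · right
    refine typeB_of_one s.flipTwist (a := a) ?_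
    let T : (ι → F) →ₗ[F] (ι → F) :=
      LinearMap.id + wtL.smulRight (ft : ι → F)
    have hT : ∀ v, T v = v + fun _ => ∑ x, v x := fun v => by
      funext y
      simp [T, ft, wtL_apply]
    have hTT : T.comp T = LinearMap.id := LinearMap.ext fun v => by
      funext y
      simp only [LinearMap.comp_apply, hT, Pi.add_apply, Finset.sum_add_distrib, Finset.sum_const,
        Finset.card_univ, s.card_eq, nsmul_eq_mul, Nat.cast_mul, Nat.cast_ofNat,
        show (2 : F) = 0 from rfl, zero_mul, add_zero, LinearMap.id_apply]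
      rw [add_assoc, vec_add_self, add_zero]
    obtain ⟨hd, hg0, hgd, φ, ⟨k, hk⟩, hφ⟩ := h
    have hdT : T (Pi.single a 1) = d := by
      funext x
      rw [hT, Pi.add_apply, Fintype.sum_pi_single', (hA x).2, Pi.single_apply]
      split_ifs <;> rfl
    have hgT : ∀ v, g (T v) = (∑ x, v x) + v a := fun v => by
      rw [flips_expand (T v) g]
      simp only [(hA _).1, mul_ite, mul_one, mul_zero, Finset.sum_ite_eq', Finset.mem_univ, if_true, hT,
        Pi.add_apply]
      exact add_comm _ _
    refine isTv_of_conj k _ _ (fun e => one_ne_zero ((Pi.single_eq_same a 1).symm.trans (congrFun e a))) ?_ ?_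
      fun v => ?_
    · intro e
      refine hg0 (LinearMap.ext fun v => ?_)
      have := LinearMap.congr_fun e (T v)
      rw [gB_apply, ← hgT] at this
      rwa [← LinearMap.comp_apply T T, hTT] at this
    · rw [gB_apply, ← hgT, hdT, hgd]
    · rw [twist_emb, twist_emb, ← hT, ← hT, map_add, map_smul, hdT, gB_apply, ← hgT]
      exact (hk (T v)).trans (by rw [hφ])
  · refine Or.inl (typeB_of_one s (a := a) ?_)
    have e1 : d = Pi.single a 1 := funext fun x => by rw [(hB x).2, Pi.single_apply]
    have e2 : g = gb a :=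
      LinearMap.ext fun v => by
        rw [gB_apply, flips_expand v g]
        simp only [(hB _).1, mul_ite, mul_one, mul_zero]
        have key : ∀ x, (if x = a then 0 else v x) = v x + if x = a then v x else 0 := fun x => by
          split_ifs
          · exact (vec_add_self _).symm
          · rw [add_zero]
        simp only [key, Finset.sum_add_distrib, Finset.sum_ite_eq', Finset.mem_univ, if_true]
    rwa [← e1, ← e2]

end Cfsg.Agent.AltClasses
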