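import Cfsg.Agent.Lib.AltClasses.Moves

/-!
The flips as even subsets of one more point: the normaliser acts as the symmetric group, so the size of
the subset separates the orbits.
-/

set_option autoImplicit false
set_option linter.unusedSectionVars false
set_option linter.style.haveILetI false

namespace Cfsg.Agent.AltClasses

open SylClasses

local notation "F" => ZMod 2

variable {ι : Type*} [Fintype ι] [DecidableEq ι]

/-- The coordinates on the points and the extra point. -/
def pc (v : ι → F) : Option ι → F
  | none => ∑ x, v x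
  | some a => v a

/-- The vector of a point and the extra point. -/
def pd : Option ι → ι → F
  | none => 0
  | some a => Pi.single a 1

/-- The functional of a point. -/
def pg : Option ι → (ι → F) →ₗ[F] F
  | none => wtL
  | some a => LinearMap.proj a

theorem pg_apply (x : Option ι) (v : ι → F) : pg x v = pc v x := by
  cases x with
  | none => exact wtL_apply v
  | some a => rfl

theorem pc_add (u v : ι → F) (x : Option ι) : pc (u + v) x = pc u x + pc v x := by
  rw [← pg_apply, ← pg_apply, ← pg_apply, map_add]

theorem pc_smul (c : F) (u : ι → F) (x : Option ι) : pc (c • u) x = c * pc u x := by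
  rw [← pg_apply, ← pg_apply, map_smul, smul_eq_mul]

theorem pc_inj : Function.Injective (pc : (ι → F) → Option ι → F) :=
  fun _ _ h => funext fun a => congrFun h (some a)

theorem pc_pd (x z : Option ι) :
    pc (pd x) z = (if z = x then 1 else 0) + if z = none then 1 else 0 := by
  cases x <;> cases z <;> simp [pc, pd, Pi.single_apply] <;> rfl

theorem pc_pd_pair (x y z : Option ι) :
    pc (pd x + pd y) z = (if z = x then 1 else 0) + if z = y then 1 else 0 := by
  rw [pc_add, pc_pd, pc_pd, add_add_add_comm, vec_add_self, add_zero]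

/-- The support on the points and the extra point. -/
def psupp (v : ι → F) : Finset (Option ι) := Finset.univ.filter fun x => pc v x = 1

theorem mem_psupp {v : ι → F} {x : Option ι} : x ∈ psupp v ↔ pc v x = 1 := by simp [psupp]

theorem psupp_inj : Function.Injective (psupp : (ι → F) → Finset (Option ι)) := fun u v h =>
  pc_inj (funext fun x => by
    have := Finset.ext_iff.1 h x
    rw [mem_psupp, mem_psupp] at this
    rcases F_cases (pc u x) with e | e <;> rcases F_cases (pc v x) with e' | e' <;> rw [e, e'] at this ⊢ <;>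
      first | exact absurd (this.2 rfl) zero_ne_one | exact absurd (this.1 rfl) zero_ne_one)

theorem psupp_even (v : ι → F) : Even (psupp v).card := by
  have e : ∀ x, (if pc v x = 1 then (1 : F) else 0) = pc v x := fun x => by
    rcases F_cases (pc v x) with h | h <;> simp [h]
  rw [← ZMod.natCast_eq_zero_iff_even, psupp, ← Finset.sum_boole, Finset.sum_congr rfl fun x _ => e x,
    Fintype.sum_option]
  exact vec_add_self (∑ x, v x)

variable {G : Type*} [Group G] [Finite G] (s : Setup ι G)

variable (hB : TypeB s)
include hB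

/-- All exchanges of two points. -/
theorem tv_mem {x y : Option ι} (h : x ≠ y) : IsTv (gD s) (pd x + pd y) (pg x + pg y) := by
  cases x with
  | none => cases y with
    | none => exact absurd rfl h
    | some b => simpa [pd, pg, gb] using hB b
  | some a => cases y with
    | none =>
      have := hB a
      rw [show pd (some a) + pd none = Pi.single a (1 : F) from add_zero _,
        show pg (some a) + pg none = gb a from add_comm _ _]
      exact this
    | some b => exact (flipSys s).mem a b fun e => h (by rw [e])

/-- Every transvection is an exchange of two points. -/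
theorem tv_all {d : ι → F} {g : (ι → F) →ₗ[F] F} (h : IsTv (gD s) d g) :
    ∃ x y : Option ι, x ≠ y ∧ d = pd x + pd y ∧ g = pg x + pg y := by
  rcases F_cases (g ft) with hg | hg
  · obtain ⟨a, b, hab, rfl, rfl⟩ := (flipSys s).all d g h hg
    exact ⟨some a, some b, fun e => hab (Option.some_injective _ e), rfl, rfl⟩
  obtain ⟨a, hA | hC⟩ := flip_shape (flipSys s) h hg
  · exfalso
    have ga : g (Pi.single a 1) = 1 := by rw [(hA a).1, if_pos rfl]
    have hd : Pi.single a 1 + d = ft := funext fun x => by
      rw [Pi.add_apply, (hA x).2, Pi.single_apply]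
      split_ifs <;> rfl
    have hbd : gb a d = 1 := by
      have he : ∀ v, gb a (Pi.single a 1 + v) = gb a v := fun v => by
        rw [map_add, gB_apply, Fintype.sum_pi_single', Pi.single_eq_same, vec_add_self, zero_add]
      rw [← he, hd, gB_apply]
      show (∑ _x : ι, (1 : F)) + 1 = 1
      rw [Finset.sum_const, Finset.card_univ, s.card_eq, nsmul_one, Nat.cast_mul, Nat.cast_ofNat,
        show (2 : F) = 0 from rfl, zero_mul, zero_add]
    have h2 := h.conj (hB a)
    rw [ga, one_smul, hd, hbd, one_smul] at h2
    obtain ⟨p, q, hpq, e, -⟩ := (flipSys s).all _ _ h2 (by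
      rw [LinearMap.add_apply, hg, gB_apply]
      show (∑ _x : ι, (1 : F)) + 1 + 1 = 0
      rw [Finset.sum_const, Finset.card_univ, s.card_eq, nsmul_one, Nat.cast_mul, Nat.cast_ofNat,
        show (2 : F) = 0 from rfl, zero_mul, zero_add]
      rfl)
    obtain ⟨x, hx⟩ : ∃ x, x ∉ ({p, q} : Finset ι) := by
      by_contra hn
      push Not at hn
      have := Finset.card_le_card (show (Finset.univ : Finset ι) ⊆ {p, q} from fun x _ => hn x)
      rw [Finset.card_univ, Finset.card_pair hpq, s.card_eq] at this
      have := s.two_le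
      omega
    simp only [Finset.mem_insert, Finset.mem_singleton, not_or] at hx
    have := congrFun e x
    rw [fc_other hx.1 hx.2] at this
    exact one_ne_zero this
  · refine ⟨some a, none, by simp, ?_, LinearMap.ext fun v => ?_⟩
    · funext x
      rw [show pd (some a) + pd none = Pi.single a (1 : F) from add_zero _, (hC x).2, Pi.single_apply]
    · rw [LinearMap.add_apply, pg_apply, pg_apply, flips_expand v g]
      simp only [(hC _).1, mul_ite, mul_one, mul_zero, pc]
      have key : ∀ x, (if x = a then 0 else v x) = v x + if x = a then v x else 0 := fun x => by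
        split_ifs
        · exact (vec_add_self _).symm
        · rw [add_zero]
      simp only [key, Finset.sum_add_distrib, Finset.sum_ite_eq', Finset.mem_univ, if_true]
      exact add_comm _ _

/-- The exchange of two points, as a map. -/
theorem exists_swap (x y : Option ι) :
    ∃ φ ∈ gD s, ∀ v z, pc (φ v) z = pc v (Equiv.swap x y z) := by
  rcases eq_or_ne x y with rfl | hxy
  · exact ⟨1, one_mem _, fun v z => by simp⟩
  obtain ⟨-, -, -, φ, hφ, hv⟩ := tv_mem s hB hxy
  refine ⟨φ, hφ, fun v z => ?_⟩
  rw [hv, pc_add, pc_smul, LinearMap.add_apply, pg_apply, pg_apply, pc_pd_pair]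
  rcases eq_or_ne z x with rfl | hzx
  · rw [Equiv.swap_apply_left, if_pos rfl, if_neg hxy, add_zero, mul_one, ← add_assoc, vec_add_self, zero_add]
  rcases eq_or_ne z y with rfl | hzy
  · rw [Equiv.swap_apply_right, if_neg hzx, if_pos rfl, zero_add, mul_one, add_left_comm, vec_add_self,
      add_zero]
  rw [Equiv.swap_apply_of_ne_of_ne hzx hzy, if_neg hzx, if_neg hzy, add_zero, mul_zero, add_zero]

/-- Subsets of equal size lie in one orbit. -/
theorem orbit_of_card {u v : ι → F} (h : (psupp u).card = (psupp v).card) : ∃ φ ∈ gD s, φ u = v := by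
  induction hk : (psupp u \ psupp v).card using Nat.strong_induction_on generalizing u with
  | _ k ih =>
    subst hk
    by_cases he : psupp u \ psupp v = ∅
    · exact ⟨1, one_mem _, psupp_inj (Finset.eq_of_subset_of_card_le (Finset.sdiff_eq_empty_iff_subset.1 he) h.ge)⟩
    obtain ⟨x, hx⟩ := Finset.nonempty_iff_ne_empty.2 he
    obtain ⟨y, hy⟩ : (psupp v \ psupp u).Nonempty := Finset.card_pos.1 (by
      rw [← Finset.card_sdiff_comm h]; exact Finset.card_pos.2 ⟨x, hx⟩)
    obtain ⟨φ, hφ, hφv⟩ := exists_swap s hB x y
    have hs : psupp (φ u) = (psupp u).image (Equiv.swap x y) := by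
      ext z
      simp only [mem_psupp, hφv, Finset.mem_image]
      exact ⟨fun e => ⟨_, e, Equiv.swap_apply_self x y z⟩, fun ⟨w, hw, e⟩ => by
        rw [← e, Equiv.swap_apply_self]; exact hw⟩
    rw [Finset.mem_sdiff] at hx hy
    obtain ⟨ψ, hψ, hψv⟩ := ih _ (Finset.card_lt_card (t := psupp u \ psupp v) (by
      refine Finset.ssubset_iff_of_subset ?_ |>.2 ⟨x, Finset.mem_sdiff.2 hx, ?_⟩
      · intro z hz
        rw [Finset.mem_sdiff, hs, Finset.mem_image] at hz
        obtain ⟨⟨w, hw, rfl⟩, hz⟩ := hz
        rcases eq_or_ne w x with rfl | h1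
        · rw [Equiv.swap_apply_left] at hz; exact absurd hy.1 hz
        rcases eq_or_ne w y with rfl | h2
        · exact absurd hw hy.2
        rw [Equiv.swap_apply_of_ne_of_ne h1 h2] at hz ⊢
        exact Finset.mem_sdiff.2 ⟨hw, hz⟩
      · rw [Finset.mem_sdiff, hs, Finset.mem_image]
        rintro ⟨⟨w, hw, e⟩, -⟩
        rw [← e] at hx
        rcases eq_or_ne w y with rfl | h2
        · exact hy.2 hw
        rcases eq_or_ne w x with rfl | h1
        · rw [Equiv.swap_apply_left] at e; exact hy.2 (e ▸ hw)
        rw [Equiv.swap_apply_of_ne_of_ne h1 h2] at e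
        exact h1 e)) (by rw [hs, Finset.card_image_of_injective _ (Equiv.injective _)]; exact h) rfl
    exact ⟨ψ * φ, mul_mem hψ hφ, hψv⟩

open Classical in
/-- The number of transvections moving a vector. -/
theorem card_moving (w : ι → F) :
    (Finset.univ.filter fun d => ∃ g, IsTv (gD s) d g ∧ g w = 1).card =
      (psupp w).card * (2 * s.n + 1 - (psupp w).card) := by
  rw [show 2 * s.n + 1 = Fintype.card (Option ι) by rw [Fintype.card_option, s.card_eq], ← Finset.card_compl,
    ← Finset.card_product]
  symm
  refine Finset.card_bij (fun p _ => pd p.1 + pd p.2) (fun p hp => ?_) (fun p hp q hq e => ?_) fun d hd => ?_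
  · simp only [Finset.mem_product, Finset.mem_compl, mem_psupp] at hp
    refine Finset.mem_filter.2 ⟨Finset.mem_univ _, pg p.1 + pg p.2, tv_mem s hB (fun e => hp.2 (e ▸ hp.1)), ?_⟩
    rw [LinearMap.add_apply, pg_apply, pg_apply, hp.1, (F_cases _).resolve_right hp.2, add_zero]
  · simp only [Finset.mem_product, Finset.mem_compl, mem_psupp] at hp hq
    have hpne : p.1 ≠ p.2 := fun e => hp.2 (e ▸ hp.1)
    have h1 := congrArg (fun v => pc v p.1) e
    have h2 := congrArg (fun v => pc v p.2) e
    simp only [pc_pd_pair] at h1 h2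
    rw [if_true, if_neg hpne, add_zero, if_neg (fun e : p.1 = q.2 => hq.2 (e ▸ hp.1)), add_zero] at h1
    rw [if_true, if_neg hpne.symm, zero_add, if_neg (fun e : p.2 = q.1 => hp.2 (e ▸ hq.1)), zero_add] at h2
    refine Prod.ext ?_ ?_
    · by_contra hn; rw [if_neg hn] at h1; exact one_ne_zero h1
    · by_contra hn; rw [if_neg hn] at h2; exact one_ne_zero h2
  · obtain ⟨-, g, hg, hgw⟩ := Finset.mem_filter.1 hd
    obtain ⟨x, y, -, rfl, rfl⟩ := tv_all s hB hg
    rw [LinearMap.add_apply, pg_apply, pg_apply] at hgw
    rcases F_cases (pc w x) with e | e <;> rw [e] at hgw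
    · rw [zero_add] at hgw
      exact ⟨(y, x), by simp [mem_psupp, e, hgw], add_comm _ _⟩
    · refine ⟨(x, y), ?_, rfl⟩
      have : pc w y = 0 := add_eq_left.1 hgw
      simp [mem_psupp, e, this]

/-- The size of the subset is invariant. -/
theorem card_inv {φ : (ι → F) ≃ₗ[F] (ι → F)} (hφ : φ ∈ gD s) (w : ι → F) :
    (psupp (φ w)).card = (psupp w).card := by
  classical
  have key : (Finset.univ.filter fun d => ∃ g, IsTv (gD s) d g ∧ g (φ w) = 1) =
      (Finset.univ.filter fun d => ∃ g, IsTv (gD s) d g ∧ g w = 1).image φ := by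
    ext d
    simp only [Finset.mem_filter, Finset.mem_univ, true_and, Finset.mem_image]
    constructor
    · rintro ⟨g, hg, hgw⟩
      exact ⟨φ.symm d, ⟨_, hg.map (inv_mem hφ), hgw⟩, φ.apply_symm_apply d⟩
    · rintro ⟨d', ⟨g, hg, hgw⟩, rfl⟩
      exact ⟨_, hg.map hφ, by simpa using hgw⟩
  have h := congrArg Finset.card key
  rw [card_moving s hB, Finset.card_image_of_injective _ φ.injective, card_moving s hB] at h
  have hb : ∀ v : ι → F, (psupp v).card ≤ 2 * s.n + 1 := fun v => by
    have := Finset.card_le_univ (psupp v)
    rwa [Fintype.card_option, s.card_eq] at this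
  obtain ⟨p, hp⟩ := psupp_even (φ w)
  obtain ⟨q, hq⟩ := psupp_even w
  have h' : ((psupp (φ w)).card : ℤ) * (2 * s.n + 1 - (psupp (φ w)).card) =
      (psupp w).card * (2 * s.n + 1 - (psupp w).card) := by
    have := congrArg (Nat.cast (R := ℤ)) h
    rw [Nat.cast_mul, Nat.cast_mul, Nat.cast_sub (hb _), Nat.cast_sub (hb _)] at this
    exact_mod_cast this
  have h3 : (((psupp (φ w)).card : ℤ) - (psupp w).card) *
      (2 * s.n + 1 - (psupp (φ w)).card - (psupp w).card) = 0 := by linear_combination h'
  rcases mul_eq_zero.1 h3 with e | e <;> omega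

end Cfsg.Agent.AltClasses
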