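import Cfsg.Agent.Lib.AltClasses.Closed

/-!
An involution moving two points is conjugate to `t`: otherwise the transfer with the sign would give a
subgroup of index two.
-/

set_option autoImplicit false
set_option linter.unusedSectionVars false
set_option linter.style.haveILetI false

namespace Cfsg.Agent.AltClasses

open SylClasses

local notation "F" => ZMod 2

variable {ι : Type*} [Fintype ι] [DecidableEq ι] {G : Type*} [Group G] [Finite G] (s : Setup ι G)

theorem exists_back_bm (μ : ι → ι) (hμ : Function.Involutive μ) (g : G)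
    (hg : ∀ x ∈ s.bm μ hμ, g * x * g⁻¹ ∈ Subgroup.centralizer ({s.t} : Set G)) :
    ∃ u ∈ W.std μ hμ, g * s.emb u * g⁻¹ = s.t := by
  obtain ⟨z, -, μ', hμ', e⟩ := s.exists_bm (B := (s.bm μ hμ).map (MulAut.conj g).toMonoidHom)
    (by rintro _ ⟨x, hx, rfl⟩; exact hg x hx)
    (by rintro _ ⟨x, hx, rfl⟩; rw [← map_mul, s.bm_sq hx, map_one])
    (by rw [Subgroup.card_map_of_injective (MulAut.conj g).injective, s.card_bm])
  have ht := s.t_mem_bm μ' hμ'
  rw [← e] at ht
  obtain ⟨_, ⟨_, ⟨u, hu, rfl⟩, rfl⟩, h⟩ := ht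
  refine ⟨u, hu, ?_⟩
  have h' : (z : G) * (g * s.emb u * g⁻¹) * (z : G)⁻¹ = s.t := h
  have hz : (z : G) * s.t = s.t * z := Subgroup.mem_centralizer_singleton_iff.1 z.2
  calc g * s.emb u * g⁻¹ = (z : G)⁻¹ * ((z : G) * (g * s.emb u * g⁻¹) * (z : G)⁻¹) * z := by group
    _ = (z : G)⁻¹ * (s.t * z) := by rw [h', mul_assoc]
    _ = s.t := by rw [← hz, inv_mul_cancel_left]

omit [Finite G] in
/-- A character does not change along a conjugation inside the centraliser. -/
theorem char_conj (χ : W ι →* Multiplicative F) {g : G} (hg : g ∈ Subgroup.centralizer ({s.t} : Set G))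
    (a : W ι) (h : g * s.emb a * g⁻¹ ∈ Subgroup.centralizer ({s.t} : Set G)) :
    χ (s.proj ⟨_, h⟩) = χ a := by
  have e : (⟨g * s.emb a * g⁻¹, h⟩ : ↥(Subgroup.centralizer ({s.t} : Set G))) =
      ⟨g, hg⟩ * ⟨s.emb a, s.emb_mem a⟩ * (⟨g, hg⟩)⁻¹ := Subtype.ext rfl
  rw [e, map_mul s.proj, map_mul s.proj, map_inv s.proj, s.proj_emb, map_mul, map_mul, map_inv,
    mul_right_comm, mul_inv_cancel, one_mul]

theorem pc_comp (v : ι → F) (σ : Equiv.Perm ι) (z : Option ι) : pc (v ∘ σ) z = pc v (z.map σ) := by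
  cases z with
  | none => exact Equiv.sum_comp σ v
  | some j => rfl

theorem psupp_ft (hn : Even (Fintype.card ι)) : psupp (ft : ι → F) = Finset.univ.erase none := by
  ext z
  rw [mem_psupp]
  cases z with
  | none =>
    simp [pc, ft, (ZMod.natCast_eq_zero_iff_even).2 hn]
  | some j => simp [pc, ft]

/-- A conjugate of `t` moves two points. -/
theorem exists_swap_fused (hB : TypeB s) :
    ∃ (u : W ι) (g : G), u * u = 1 ∧ u.p ≠ 1 ∧ g * s.emb u * g⁻¹ = s.t := by
  obtain ⟨a⟩ := card_pos' s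
  obtain ⟨b, hba⟩ := Fintype.exists_ne_of_one_lt_card (α := ι) (by rw [s.card_eq]; have := s.two_le; omega) a
  set σ := Equiv.swap a b with hσ
  have hμ : Function.Involutive σ := Equiv.swap_apply_self a b
  have hmem : W.pm σ ∈ W.std σ hμ := ⟨fun _ => rfl, fun i => Or.inr rfl⟩
  have hsgn : W.sgnHom (W.pm σ) ≠ 1 := by
    show Multiplicative.ofAdd (if Equiv.Perm.sign σ = 1 then (0 : F) else 1) ≠ 1
    rw [hσ, Equiv.Perm.sign_swap hba.symm, if_neg (by decide)]
    decide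
  have he : s.emb (W.pm σ) ∈ s.bm σ hμ := ⟨_, hmem, rfl⟩
  obtain ⟨g, ⟨hge, hpar⟩, hg⟩ := exists_move s W.sgnHom (isPGroup_bm s σ hμ) (s.bm_le σ hμ) he
    (s.bm_sq he) (by rw [s.proj_eq]; exact hsgn)
  obtain ⟨u, hu, hut⟩ := exists_back_bm s σ hμ g fun x hx => hg x hx (s.bm_comm hx he)
  refine ⟨u, g, W.std_sq hu, fun hp => ?_, hut⟩
  set w := u.v with hw
  have hu' : u = W.fl w := W.ext rfl hp
  have hwab : w a = w b := by
    have := hu.1 b
    rwa [hσ, Equiv.swap_apply_right] at this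
  rw [hu'] at hut
  have hev : Even (Fintype.card ι) := ⟨s.n, by rw [s.card_eq, two_mul]⟩
  have hcard : (psupp w).card = (Finset.univ.erase (none : Option ι)).card := by
    rw [← psupp_ft hev]
    exact card_of_conj s hB (g := g) hut
  have hc1 : (psupp w)ᶜ.card = 1 := by
    rw [Finset.card_compl, hcard, Finset.card_erase_of_mem (Finset.mem_univ _), Finset.card_univ]
    have : 0 < Fintype.card (Option ι) := Fintype.card_pos
    omega
  obtain ⟨c, hc⟩ := Finset.card_eq_one.1 hc1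
  have hsupp : psupp w = Finset.univ.erase c := by
    rw [← compl_compl (psupp w), hc]
    ext z
    simp
  rcases c with _ | i
  · have hwt : w = ft := psupp_inj (by rw [hsupp, psupp_ft hev])
    rw [hwt] at hut
    have hgt : g ∈ Subgroup.centralizer ({s.t} : Set G) :=
      Subgroup.mem_centralizer_singleton_iff.2 (mul_inv_eq_iff_eq_mul.1 hut)
    exact hsgn (by rw [← char_conj s W.sgnHom hgt _ hge]; exact hpar)
  have hwv : ∀ j, w j = 1 ↔ j ≠ i := fun j => by
    have := Finset.ext_iff.1 hsupp (some j)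
    simpa [mem_psupp, pc] using this
  have hia : i ≠ a := fun e => hba (by
    by_contra h
    have h1 : w b = 1 := (hwv b).2 (e ▸ h)
    exact (hwv a).1 (hwab.trans h1) e.symm)
  have hib : i ≠ b := fun e => hba.symm (by
    by_contra h
    have h1 : w a = 1 := (hwv a).2 (e ▸ h)
    exact (hwv b).1 (hwab.symm.trans h1) e.symm)
  have hσi : σ i = i := Equiv.swap_apply_of_ne_of_ne hia hib
  obtain ⟨φ, ⟨m, hm⟩, hφ⟩ := exists_swap s hB (some i) none
  have hφw : φ w = ft := psupp_inj (by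
    ext z
    rw [mem_psupp, hφ, ← mem_psupp, hsupp, psupp_ft hev]
    simp only [Finset.mem_erase, Finset.mem_univ, and_true, ne_eq]
    rw [Equiv.swap_apply_eq_iff, Equiv.swap_apply_left])
  set h := m * s.emb (W.pm σ) * m⁻¹ with hh
  have hconjσ : ∀ y, s.emb (W.pm σ) * s.emb (W.fl y) * (s.emb (W.pm σ))⁻¹ = s.emb (W.fl (y ∘ σ)) := fun y => by
    rw [← map_inv, ← map_mul, ← map_mul, W.conj_fl, W.pm_p, hσ, Equiv.symm_swap]
  have hact : ∀ x, h * s.emb (W.fl x) * h⁻¹ = s.emb (W.fl (x ∘ σ)) := fun x => by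
    obtain ⟨y, rfl⟩ := φ.surjective x
    have e1 := hm y
    have e2 := hm (y ∘ σ)
    have e3 : φ (y ∘ σ) = φ y ∘ σ := pc_inj (funext fun z => by
      rw [hφ, pc_comp, pc_comp, hφ]
      congr 1
      rcases z with _ | j
      · simp [hσi]
      · rcases eq_or_ne j i with rfl | hji
        · simp [hσi]
        · have : σ j ≠ i := fun e => hji (σ.injective (e.trans hσi.symm))
          simp [Equiv.swap_apply_of_ne_of_ne, hji, this])
    simp only at e1 e2
    rw [hh, ← e1, ← e3, ← e2, ← hconjσ]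
    group
  have hδ : (s.emb (W.pm σ))⁻¹ * h ∈ s.D := by
    haveI := card_pos' s
    refine s.mem_D_of_comm fun x hx => ?_
    obtain ⟨y, rfl⟩ := s.mem_D.1 hx
    rw [← mul_inv_eq_iff_eq_mul]
    calc (s.emb (W.pm σ))⁻¹ * h * s.emb (W.fl y) * ((s.emb (W.pm σ))⁻¹ * h)⁻¹
        = (s.emb (W.pm σ))⁻¹ * (h * s.emb (W.fl y) * h⁻¹) * s.emb (W.pm σ) := by group
      _ = (s.emb (W.pm σ))⁻¹ * (s.emb (W.pm σ) * s.emb (W.fl y) * (s.emb (W.pm σ))⁻¹) * s.emb (W.pm σ) := by
          rw [hact, hconjσ]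
      _ = _ := by group
  obtain ⟨δ, hδ⟩ := s.mem_D.1 hδ
  rw [inv_mul_eq_iff_eq_mul, ← map_mul] at hδ
  have hgt : g * m⁻¹ ∈ Subgroup.centralizer ({s.t} : Set G) := by
    rw [Subgroup.mem_centralizer_singleton_iff]
    have e1 := hm w
    rw [hφw] at e1
    simp only at e1
    calc g * m⁻¹ * s.t = g * m⁻¹ * (m * s.emb (W.fl w) * m⁻¹) := by rw [e1]; rfl
      _ = (g * s.emb (W.fl w) * g⁻¹) * (g * m⁻¹) := by group
      _ = s.t * (g * m⁻¹) := by rw [hut]
  have e2 : g * s.emb (W.pm σ) * g⁻¹ = g * m⁻¹ * s.emb (W.pm σ * W.fl δ) * (g * m⁻¹)⁻¹ := by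
    rw [← hδ, hh]; group
  have h3 := char_conj s W.sgnHom hgt (W.pm σ * W.fl δ) (e2 ▸ hge)
  rw [map_mul W.sgnHom, show W.sgnHom (W.fl δ) = 1 from by simp [W.sgnHom], mul_one] at h3
  refine hsgn (h3.symm.trans ?_)
  rw [← hpar]
  congr 2
  exact Subtype.ext e2.symm

end Cfsg.Agent.AltClasses
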