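import Mathlib.LinearAlgebra.Pi
import Mathlib.LinearAlgebra.Prod
import Mathlib.Data.ZMod.Basic
import Mathlib.Tactic

/-!
Transvections of a linear group over the field with two elements, relative to a vector whose
fixed transvections have centres summing to it.
-/

set_option autoImplicit false
set_option linter.unusedSectionVars false

namespace Cfsg.Agent.AltClasses

local notation "F" => ZMod 2

theorem F_cases : ∀ a : F, a = 0 ∨ a = 1 := by decide

section general

variable {V : Type*} [AddCommGroup V] [Module F V]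

theorem vec_add_self (v : V) : v + v = 0 := by
  rw [← two_smul F, show (2 : F) = 0 from rfl, zero_smul]

/-- `(c, f)` is a transvection of `Γ`. -/
def IsTv (Γ : Subgroup (V ≃ₗ[F] V)) (c : V) (f : V →ₗ[F] F) : Prop :=
  c ≠ 0 ∧ f ≠ 0 ∧ f c = 0 ∧ ∃ φ ∈ Γ, ∀ v, φ v = v + f v • c

variable {Γ : Subgroup (V ≃ₗ[F] V)}

/-- Transport by an element of the group. -/
theorem IsTv.map {c : V} {f : V →ₗ[F] F} (h : IsTv Γ c f) {φ : V ≃ₗ[F] V} (hφ : φ ∈ Γ) :
    IsTv Γ (φ c) (f.comp φ.symm.toLinearMap) := by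
  obtain ⟨hc, hf, hfc, ψ, hψ, hψv⟩ := h
  refine ⟨fun e => hc (φ.map_eq_zero_iff.1 e), fun e => hf (LinearMap.ext fun v => ?_), ?_,
    φ * ψ * φ⁻¹, mul_mem (mul_mem hφ hψ) (inv_mem hφ), fun v => ?_⟩
  · have := LinearMap.congr_fun e (φ v)
    simpa using this
  · simpa using hfc
  · show φ (ψ (φ.symm v)) = _
    rw [hψv, map_add, map_smul, LinearEquiv.apply_symm_apply]
    rfl

/-- Transport of one transvection by another. -/
theorem IsTv.conj {c d : V} {f g : V →ₗ[F] F} (h : IsTv Γ c f) (h' : IsTv Γ d g) :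
    IsTv Γ (d + f d • c) (g + g c • f) := by
  obtain ⟨-, -, hfc, φ, hφ, hφv⟩ := h
  have h2 := h'.map hφ
  have hinv : ∀ v, φ.symm v = v + f v • c := fun v => by
    rw [LinearEquiv.symm_apply_eq, hφv, map_add, map_smul, hfc, smul_zero, add_zero, add_assoc,
      vec_add_self, add_zero]
  convert h2 using 1
  · exact (hφv d).symm
  · refine LinearMap.ext fun v => ?_
    simp only [LinearMap.comp_apply, LinearEquiv.coe_coe, hinv, map_add, map_smul,
      LinearMap.add_apply, LinearMap.smul_apply, smul_eq_mul, mul_comm]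

theorem IsTv.prod_center {c : V} {f g : V →ₗ[F] F} (h : IsTv Γ c f) (h' : IsTv Γ c g) (hne : f ≠ g) :
    IsTv Γ c (f + g) := by
  obtain ⟨hc, -, hfc, φ, hφ, hφv⟩ := h
  obtain ⟨-, -, hgc, ψ, hψ, hψv⟩ := h'
  refine ⟨hc, fun e => hne ?_, by simp [hfc, hgc], φ * ψ, mul_mem hφ hψ, fun v => ?_⟩
  · refine LinearMap.ext fun v => ?_
    have := LinearMap.congr_fun e v
    simp only [LinearMap.add_apply, LinearMap.zero_apply] at this
    exact CharTwo.add_eq_zero.1 this
  · show φ (ψ v) = _
    rw [hψv, hφv, map_add, map_smul, hfc, smul_zero, add_zero, LinearMap.add_apply, add_smul]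
    abel

theorem IsTv.prod_fun {c d : V} {f : V →ₗ[F] F} (h : IsTv Γ c f) (h' : IsTv Γ d f) (hne : c ≠ d) :
    IsTv Γ (c + d) f := by
  obtain ⟨-, hf, hfc, φ, hφ, hφv⟩ := h
  obtain ⟨-, -, hfd, ψ, hψ, hψv⟩ := h'
  refine ⟨fun e => hne ?_, hf, by simp [hfc, hfd], φ * ψ, mul_mem hφ hψ, fun v => ?_⟩
  · calc c = c + (d + d) := by rw [vec_add_self, add_zero]
      _ = d := by rw [← add_assoc, e, zero_add]
  · show φ (ψ v) = _
    rw [hψv, hφv, map_add, map_smul, hfd, smul_zero, add_zero, smul_add]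
    abel

/-- A vector whose fixed transvections are listed, with centres summing to it. -/
structure Centred (Γ : Subgroup (V ≃ₗ[F] V)) (t : V) {ι : Type*} [Fintype ι] (c : ι → V)
    (f : ι → V →ₗ[F] F) : Prop where
  mem : ∀ i, IsTv Γ (c i) (f i)
  fix : ∀ i, f i t = 0
  all : ∀ d g, IsTv Γ d g → g t = 0 → ∃ i, d = c i ∧ g = f i
  inj : Function.Injective f
  sum : ∑ i, c i = t

variable {ι : Type*} [Fintype ι] {t : V} {c : ι → V} {f : ι → V →ₗ[F] F}

/-- A translate of `t` fixed by all the listed transvections is `t`. -/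
theorem Centred.no_shift (S : Centred Γ t c f) {φ : V ≃ₗ[F] V} (hφ : φ ∈ Γ)
    (h : ∀ i, f i (φ t) = 0) : φ t = t := by
  have hφ' : φ⁻¹ ∈ Γ := inv_mem hφ
  have key : ∀ i, ∃ j, φ.symm (c i) = c j ∧ (f i).comp φ.toLinearMap = f j := fun i =>
    S.all _ _ ((S.mem i).map hφ') (by simpa using h i)
  choose π hπ hπf using key
  have hinj : Function.Injective π := fun i j e => S.inj (LinearMap.ext fun v => by
    have := LinearMap.congr_fun ((hπf i).trans ((congrArg f e).trans (hπf j).symm)) (φ.symm v)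
    simpa using this)
  have e : φ.symm t = t := by
    nth_rewrite 1 [← S.sum]
    rw [map_sum]
    simp only [hπ]
    rw [(Finite.injective_iff_bijective.1 hinj).sum_comp, S.sum]
  rw [LinearEquiv.symm_apply_eq] at e
  exact e.symm

/-- A group moving `t` has a transvection moving `t`. -/
theorem Centred.exists_moving (S : Centred Γ t c f) (h : ∃ φ ∈ Γ, φ t ≠ t) :
    ∃ d g, IsTv Γ d g ∧ g t = 1 := by
  by_contra hne
  push Not at hne
  obtain ⟨φ, hφ, hφt⟩ := h
  refine hφt (S.no_shift hφ fun i => ?_)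
  have h2 := (S.mem i).map (inv_mem hφ)
  have h3 := (F_cases _).resolve_right (hne _ _ h2)
  exact h3

/-- A second centred vector off the fixed hyperplanes forces `t` to move. -/
theorem Centred.moves (S : Centred Γ t c f) (hortho : ∀ i j, f i (c j) = 0) {u : V} {κ : Type*}
    [Fintype κ] {c' : κ → V} {f' : κ → V →ₗ[F] F} (hmem : ∀ i, IsTv Γ (c' i) (f' i))
    (hsum : ∑ i, c' i = u) (hu : ∃ i, f i u ≠ 0) : ∃ φ ∈ Γ, φ t ≠ t := by
  by_contra hne
  push Not at hne
  obtain ⟨i, hi⟩ := hu
  refine hi ?_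
  rw [← hsum, map_sum]
  refine Finset.sum_eq_zero fun j _ => ?_
  obtain ⟨hc, -, hgc, ψ, hψ, hψv⟩ := hmem j
  have h0 : f' j t = 0 := by
    refine (F_cases _).resolve_right fun e => hc ?_
    have := hne ψ hψ
    rwa [hψv, e, one_smul, add_eq_left] at this
  obtain ⟨l, hl, -⟩ := S.all _ _ (hmem j) h0
  rw [hl, hortho]

end general

/-! ### The space of a sum of blocks -/

/-- Vectors with a swap coordinate and a flip coordinate at each block. -/
abbrev BV (ι : Type*) := (ι → F) × (ι → F)

variable {ι : Type*} [Fintype ι] [DecidableEq ι]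

/-- The flip of a block. -/
def bc (i : ι) : BV ι := (0, Pi.single i 1)

/-- The swap of a block. -/
def bs (i : ι) : BV ι := (Pi.single i 1, 0)

/-- The swap coordinate. -/
def bf (i : ι) : BV ι →ₗ[F] F := (LinearMap.proj i).comp (LinearMap.fst F (ι → F) (ι → F))

/-- The vector of all flips. -/
def bt : BV ι := (0, fun _ => 1)

theorem bf_apply (i : ι) (v : BV ι) : bf i v = v.1 i := rfl

theorem bf_bc (i j : ι) : bf i (bc j) = 0 := rfl

theorem bf_bs (i j : ι) : bf i (bs j) = (Pi.single j (1 : F) : ι → F) i := rfl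

theorem sum_bc : ∑ i, bc i = (bt : BV ι) := by
  refine Prod.ext ?_ ?_
  · simp [bc, bt, Prod.fst_sum]
  · funext x
    simp [bc, bt, Prod.snd_sum, Finset.sum_apply]

theorem bf_inj : Function.Injective (bf : ι → BV ι →ₗ[F] F) := fun i j e => by
  have h := LinearMap.congr_fun e (bs i)
  rw [bf_bs, bf_bs, Pi.single_eq_same, Pi.single_apply] at h
  by_contra hne
  rw [if_neg (Ne.symm hne)] at h
  exact one_ne_zero h

theorem bv_eq (v : BV ι) : v = ∑ i, v.1 i • bs i + ∑ i, v.2 i • bc i := by
  refine Prod.ext ?_ ?_ <;>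
  · funext x
    simp [bs, bc, Prod.fst_sum, Prod.snd_sum, Finset.sum_apply, Pi.single_apply]

variable {Γ : Subgroup (BV ι ≃ₗ[F] BV ι)}

/-- A transvection moving `t` belongs to exactly one block. -/
theorem block_of_tv (S : Centred Γ bt bc bf) {d : BV ι} {g : BV ι →ₗ[F] F} (h : IsTv Γ d g)
    (hg : g bt = 1) :
    ∃ i, ∀ j, (g (bc j) = 1 ↔ j = i) ∧ (d.1 j = 1 ↔ j = i) := by
  -- paired to the flip implies paired to the swap
  have JI : ∀ d (g : BV ι →ₗ[F] F), IsTv Γ d g → ∀ j, g (bc j) = 1 → d.1 j = 1 := by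
    intro d g h j hj
    refine (F_cases _).resolve_left fun h0 => h.1 ?_
    have h2 := h.conj (S.mem j)
    rw [hj, one_smul, show bf j d = 0 from h0, zero_smul, add_zero] at h2
    obtain ⟨l, hl, hlf⟩ := S.all _ _ h2 (S.fix j)
    rw [← bf_inj hlf] at hl
    exact add_eq_left.1 hl
  have IJ : ∀ j, d.1 j = 1 → g (bc j) = 1 := by
    intro j hj
    refine (F_cases _).resolve_left fun h0 => ?_
    have h2 := (S.mem j).conj h
    rw [show bf j d = 1 from hj, one_smul, h0, zero_smul, add_zero] at h2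
    have h3 := h.prod_fun h2 fun e => (S.mem j).1 (left_eq_add.1 e)
    rw [← add_assoc, vec_add_self, zero_add] at h3
    have hs : ∑ i, g (bc i) = 1 := by rw [← map_sum, sum_bc, hg]
    obtain ⟨i, -, hi⟩ := Finset.exists_ne_zero_of_sum_ne_zero (hs.trans_ne one_ne_zero)
    exact zero_ne_one (JI _ _ h3 i ((F_cases _).resolve_left hi))
  set J := Finset.univ.filter fun j => g (bc j) = 1 with hJ
  have hodd : (J.card : F) = 1 := by
    rw [← hg, ← sum_bc, map_sum, Finset.card_eq_sum_ones, Nat.cast_sum, hJ, Finset.sum_filter]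
    refine Finset.sum_congr rfl fun j _ => ?_
    rcases F_cases (g (bc j)) with e | e <;> simp [e]
  have hle : J.card < 3 := by
    by_contra hc
    obtain ⟨K, hKJ, hK⟩ := Finset.exists_subset_card_eq (not_lt.1 hc)
    obtain ⟨a, b, l, hab, hal, hbl, rfl⟩ := Finset.card_eq_three.1 hK
    simp only [Finset.insert_subset_iff, Finset.singleton_subset_iff, hJ, Finset.mem_filter,
      Finset.mem_univ, true_and] at hKJ
    obtain ⟨ha, hb, hl⟩ := hKJ
    have ga : g d = 0 := h.2.2.1
    have da := JI _ _ h a ha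
    have db := JI _ _ h b hb
    have dl := JI _ _ h l hl
    have h1 := (S.mem a).conj h
    rw [show bf a d = 1 from da, one_smul, ha, one_smul] at h1
    have h2 := (S.mem b).conj h1
    rw [map_add, show bf b d = 1 from db, bf_bc, add_zero, one_smul, LinearMap.add_apply, hb,
      bf_bc, add_zero, one_smul] at h2
    have h3 := (S.mem l).conj h2
    rw [map_add, map_add, show bf l d = 1 from dl, bf_bc, bf_bc, add_zero, add_zero, one_smul,
      LinearMap.add_apply, LinearMap.add_apply, hl, bf_bc, bf_bc, add_zero, add_zero, one_smul] at h3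
    have h4 := h.conj h3
    have e1 : g (d + bc a + bc b + bc l) = 1 := by
      rw [map_add, map_add, map_add, ga, ha, hb, hl]; rfl
    have e2 : (g + bf a + bf b + bf l) d = 1 := by
      rw [LinearMap.add_apply, LinearMap.add_apply, LinearMap.add_apply, ga,
        show bf a d = 1 from da, show bf b d = 1 from db, show bf l d = 1 from dl]
      rfl
    rw [e1, e2, one_smul, one_smul] at h4
    obtain ⟨m, -, hm⟩ := S.all _ _ h4 (by
      simp only [LinearMap.add_apply, S.fix, hg, add_zero]
      exact vec_add_self (1 : F))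
    have hma : m = a := by
      have h5 := LinearMap.congr_fun hm (bs a)
      simp only [LinearMap.add_apply, bf_bs, Pi.single_eq_same, Pi.single_eq_of_ne hab.symm,
        Pi.single_eq_of_ne hal.symm, add_zero] at h5
      rcases F_cases (g (bs a)) with e | e <;> rw [e] at h5 <;>
      · by_contra hne
        rw [Pi.single_eq_of_ne hne] at h5
        exact absurd h5 (by decide)
    have h5 := LinearMap.congr_fun hm (bs b)
    simp only [LinearMap.add_apply, bf_bs, Pi.single_eq_same, Pi.single_eq_of_ne hab,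
      Pi.single_eq_of_ne hbl.symm, hma, add_zero] at h5
    rcases F_cases (g (bs b)) with e | e <;> rw [e] at h5 <;> exact absurd h5 (by decide)
  have h1 : J.card = 1 := by
    rcases (show J.card = 0 ∨ J.card = 1 ∨ J.card = 2 by omega) with e | e | e
    · rw [e] at hodd; exact absurd hodd (by decide)
    · exact e
    · rw [e] at hodd; exact absurd hodd (by decide)
  obtain ⟨i, hi⟩ := Finset.card_eq_one.1 h1
  have hJi : ∀ j, g (bc j) = 1 ↔ j = i := fun j => by
    have := Finset.ext_iff.1 hi j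
    simpa [hJ] using this
  exact ⟨i, fun j => ⟨hJi j, fun e => (hJi j).1 (IJ j e), fun e => JI _ _ h j ((hJi j).2 e)⟩⟩

/-- Exchange of two blocks. -/
def bperm (σ : Equiv.Perm ι) : BV ι ≃ₗ[F] BV ι :=
  LinearEquiv.prodCongr (LinearEquiv.funCongrLeft F F σ) (LinearEquiv.funCongrLeft F F σ)

theorem bperm_apply (σ : Equiv.Perm ι) (v : BV ι) : bperm σ v = (v.1 ∘ σ, v.2 ∘ σ) := rfl

end Cfsg.Agent.AltClasses
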